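import Cfsg.Agent.Lib.Char.ProjRep
import Cfsg.Agent.Lib.Char.PrimeDegrees
import Cfsg.Agent.Lib.Char.TaketaBound
import Cfsg.Agent.Lib.Char.KerPPrime
import Cfsg.Agent.Lib.Char.GlaubermanOver
import Cfsg.Agent.Lib.Char.Coprime
import Cfsg.Agent.S4456

/-!
# Degree bookkeeping for groups with few character degrees
-/

open scoped ComplexConjugate
open Cfsg Cfsg.Agent.Char

set_option autoImplicit false
set_option linter.style.haveILetI false
set_option linter.unusedSectionVars false

namespace Cfsg.Agent.Solv.FewDeg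

universe u

variable {G : Type u} [Group G] [Fintype G]

open TaketaBound (degSet)

theorem mem_degSet (χ : IrrCharacter G) : deg (χ : G → ℂ) ∈ degSet G := by
  classical
  exact Finset.mem_image_of_mem _ (Finset.mem_univ χ)

theorem exists_of_mem_degSet {d : ℕ} (h : d ∈ degSet G) : ∃ χ : IrrCharacter G, deg (χ : G → ℂ) = d := by
  classical
  obtain ⟨χ, -, hχ⟩ := Finset.mem_image.1 h
  exact ⟨χ, hχ⟩

theorem deg_trivial : deg (fun _ : G => (1 : ℂ)) = 1 := by simp [deg]

theorem one_mem_degSet : 1 ∈ degSet G := by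
  have := mem_degSet (G := G) ⟨_, isIrrCharacter_one⟩
  rwa [deg_trivial] at this

/-- A constituent of a normal subgroup has degree dividing, with quotient dividing the index. -/
theorem deg_over (N : Subgroup G) [N.Normal] [Fintype N] {χ : IrrCharacter G} {θ : IrrCharacter N}
    (h : classInner (fun n : N => (χ : G → ℂ) n) (θ : N → ℂ) ≠ 0) :
    ∃ k, deg (χ : G → ℂ) = k * deg (θ : N → ℂ) ∧ k ∣ N.index := by
  classical
  obtain ⟨T, ψ, e, hNT, hψ, hind, -, -, hres, -⟩ := exists_correspondent χ.2 N θ h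
  haveI := Fintype.ofFinite T
  haveI : (N.subgroupOf T).Normal := Subgroup.Normal.comap inferInstance _
  haveI := Fintype.ofFinite (N.subgroupOf T)
  let E : N.subgroupOf T ≃* N := Subgroup.subgroupOfEquivOfLe hNT
  have he : e ∣ (N.subgroupOf T).index :=
    invariant_mult_dvd_index hψ (isIrrCharacter_comp_equiv E θ.2) fun n => by
      have := hres (E n)
      exact this
  refine ⟨T.index * e, ?_, ?_⟩
  · have h1 := congrFun hind 1
    have h2 := hres 1
    rw [map_one] at h2
    rw [indFun_one, h2, char_one_eq_deg (irr_isCharacter χ.2), char_one_eq_deg (irr_isCharacter θ.2)] at h1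
    rw [← mul_assoc] at h1
    exact_mod_cast h1
  · rw [← Subgroup.relIndex_mul_index hNT, mul_comm]
    exact mul_dvd_mul_right he _

theorem degSet_quotient_subset (N : Subgroup G) [N.Normal] [Fintype (G ⧸ N)] :
    degSet (G ⧸ N) ⊆ degSet G := by
  classical
  intro d hd
  obtain ⟨ψ, rfl⟩ := exists_of_mem_degSet hd
  have h2 : deg ((inflateEquiv N ψ).1 : G → ℂ) = deg (ψ : G ⧸ N → ℂ) := Nat.cast_injective (R := ℂ) (by
    rw [← char_one_eq_deg (irr_isCharacter (inflateEquiv N ψ).1.2),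
      ← char_one_eq_deg (irr_isCharacter ψ.2), inflateEquiv_apply, QuotientGroup.mk_one])
  rw [← h2]
  exact mem_degSet _

theorem comm_of_degSet_subset_one (h : degSet G ⊆ {1}) (a b : G) : a * b = b * a :=
  forall_linear_iff_comm.2 (fun χ => by
    rw [char_one_eq_deg (irr_isCharacter χ.2), Finset.mem_singleton.1 (h (mem_degSet χ)), Nat.cast_one]) a b

theorem card_quotient_lt {N : Subgroup G} [N.Normal] (h : N ≠ ⊥) : Nat.card (G ⧸ N) < Nat.card G := by
  rw [← Subgroup.index_eq_card]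
  have h2 : 1 < Nat.card N := (Subgroup.one_lt_card_iff_ne_bot N).2 h
  have h3 := N.index_mul_card
  have h4 : 0 < N.index := Nat.pos_of_ne_zero Subgroup.index_ne_zero_of_finite
  nlinarith

/-- If a prime divides all nonlinear degrees, the degrees of the normal complement are the parts
prime to it, and it is a proper subgroup unless the group is abelian. -/
theorem complement_degs {p : ℕ} (hp : p.Prime) (hdeg : ∀ d ∈ degSet G, d ≠ 1 → p ∣ d) :
    ∃ N : Subgroup G, ∃ (_ : N.Normal), (∃ k, N.index = p ^ k) ∧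
      (∀ [Fintype N], degSet N ⊆ (degSet G).image (fun d => ordCompl[p] d)) ∧
      ((∃ d ∈ degSet G, d ≠ 1) → Nat.card N < Nat.card G) := by
  classical
  obtain ⟨N, hN, hcop, j, hj⟩ := Cfsg.Agent.S4456.result (G := G) p hp fun χ hχ => hdeg _ (mem_degSet χ) hχ
  haveI := hN
  refine ⟨N, hN, ⟨j, hj⟩, @fun _ => ?_, fun ⟨d, hd, hd1⟩ => ?_⟩
  · intro d hd
    obtain ⟨θ, rfl⟩ := exists_of_mem_degSet hd
    obtain ⟨χ, hχ⟩ := exists_constituent_over N θ
    obtain ⟨k, hk, hkd⟩ := deg_over N hχ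
    obtain ⟨i, -, rfl⟩ := (Nat.dvd_prime_pow hp).1 (hj ▸ hkd)
    refine Finset.mem_image.2 ⟨_, mem_degSet χ, ?_⟩
    have hnd : ¬ p ∣ deg (θ : N → ℂ) := fun h =>
      hp.ne_one (Nat.eq_one_of_dvd_coprimes hcop (h.trans (deg_dvd_card θ.2)) dvd_rfl)
    have hpi : (p ^ i).factorization p = i := by simp [hp.factorization_self]
    show deg (χ : G → ℂ) / p ^ (deg (χ : G → ℂ)).factorization p = _
    rw [hk, Nat.factorization_mul (pow_ne_zero _ hp.ne_zero) (deg_pos θ.2).ne', Finsupp.add_apply, hpi,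
      Nat.factorization_eq_zero_of_not_dvd hnd, add_zero,
      Nat.mul_div_cancel_left _ (pow_pos hp.pos _)]
  · refine lt_of_le_of_ne (Subgroup.card_le_card_group N) fun e => ?_
    obtain ⟨χ, rfl⟩ := exists_of_mem_degSet hd
    exact hp.ne_one (Nat.eq_one_of_dvd_coprimes (e ▸ hcop) ((hdeg _ hd hd1).trans (deg_dvd_card χ.2)) dvd_rfl)

/-- Fewer than three degrees share a prime. -/
theorem exists_coprime_pair (hcard : (degSet G).card ≤ 3)
    (hno : ∀ p : ℕ, p.Prime → ∃ d ∈ degSet G, d ≠ 1 ∧ ¬ p ∣ d) :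
    ∃ a b : ℕ, 1 < a ∧ a < b ∧ a.Coprime b ∧ degSet G = {1, a, b} := by
  classical
  obtain ⟨a, ha, ha1, -⟩ := hno 2 Nat.prime_two
  obtain ⟨χ, hχ⟩ := exists_of_mem_degSet ha
  have ha0 : 0 < a := hχ ▸ deg_pos χ.2
  obtain ⟨p, hp, hpa⟩ := Nat.exists_prime_and_dvd ha1
  obtain ⟨b, hb, hb1, hpb⟩ := hno p hp
  obtain ⟨χ', hχ'⟩ := exists_of_mem_degSet hb
  have hb0 : 0 < b := hχ' ▸ deg_pos χ'.2
  have hab : a ≠ b := fun e => hpb (e ▸ hpa)
  have heq : ({1, a, b} : Finset ℕ) = degSet G := by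
    refine Finset.eq_of_subset_of_card_le ?_ (hcard.trans ?_)
    · intro x hx
      simp only [Finset.mem_insert, Finset.mem_singleton] at hx
      rcases hx with rfl | rfl | rfl
      · exact one_mem_degSet
      · exact ha
      · exact hb
    · rw [Finset.card_insert_of_notMem (by simp [ha1.symm, hb1.symm]), Finset.card_pair hab]
  have hcop : a.Coprime b := Nat.coprime_of_dvd fun q hq hqa hqb => by
    obtain ⟨d, hd, hd1, hqd⟩ := hno q hq
    rw [← heq] at hd
    simp only [Finset.mem_insert, Finset.mem_singleton] at hd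
    rcases hd with rfl | rfl | rfl
    · exact hd1 rfl
    · exact hqd hqa
    · exact hqd hqb
  rcases Nat.lt_or_ge a b with h | h
  · exact ⟨a, b, by omega, h, hcop, heq.symm⟩
  · exact ⟨b, a, by omega, lt_of_le_of_ne h (Ne.symm hab), hcop.symm, by rw [← heq, Finset.pair_comm]⟩

end Cfsg.Agent.Solv.FewDeg
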