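import Cfsg.Agent.Lib.Solv.FewDeg.Basic
import Cfsg.Agent.Lib.Char.ThompsonDegree
import Cfsg.Agent.Lib.Char.Codegree
import Cfsg.Agent.S0168

/-!
# A group with at most three character degrees is solvable
-/

open scoped ComplexConjugate commutatorElement
open Cfsg Cfsg.Agent.Char

set_option autoImplicit false
set_option linter.style.haveILetI false
set_option linter.unusedSectionVars false

namespace Cfsg.Agent.Solv.FewDeg

universe u

variable {G : Type u} [Group G] [Fintype G]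

open TaketaBound (degSet)

/-- The principal character. -/
noncomputable def pri (H : Type u) [Group H] [Fintype H] : IrrCharacter H := ⟨fun _ => 1, isIrrCharacter_one⟩

theorem deg_irr_cast (χ : IrrCharacter G) : (χ : G → ℂ) 1 = (deg (χ : G → ℂ) : ℂ) :=
  char_one_eq_deg (irr_isCharacter χ.2)

theorem perfect_hom_one {M : Subgroup G} (hperf : ⁅M, M⁆ = M) (l : M →* ℂˣ) : l = 1 := by
  have hle : M ≤ l.ker.map M.subtype := by
    conv_lhs => rw [← hperf]
    rw [Subgroup.commutator_le]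
    intro a ha b hb
    refine ⟨⁅(⟨a, ha⟩ : M), ⟨b, hb⟩⁆, ?_, by simp [commutatorElement_def]⟩
    rw [SetLike.mem_coe, MonoidHom.mem_ker, map_commutatorElement, commutatorElement_eq_one_iff_mul_comm]
    exact mul_comm _ _
  refine MonoidHom.ext fun x => ?_
  obtain ⟨y, hy, e⟩ := hle x.2
  rw [← Subtype.ext (show (y : G) = (x : G) from e)]
  exact hy

theorem hom_trivial_on {M : Subgroup G} (hperf : ⁅M, M⁆ = M) (l : G →* ℂˣ) (x : G) (hx : x ∈ M) : l x = 1 :=
  DFunLike.congr_fun (perfect_hom_one hperf (l.comp M.subtype)) ⟨x, hx⟩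

theorem eq_pri_of_linear {M : Subgroup G} [Fintype M] (hperf : ⁅M, M⁆ = M) (θ : IrrCharacter M)
    (h : deg (θ : M → ℂ) = 1) : θ = pri M := by
  obtain ⟨l, hl⟩ := exists_hom_of_degree_one (irr_isCharacter θ.2) (by rw [deg_irr_cast, h, Nat.cast_one])
  refine Subtype.ext ?_
  rw [hl, perfect_hom_one hperf l]
  funext x
  simp [pri]

theorem eq_pri_of_trivial (M : Subgroup G) [Fintype M] (χ : IrrCharacter G) (θ : IrrCharacter M)
    (h : classInner (fun m : M => (χ : G → ℂ) m) (θ : M → ℂ) ≠ 0)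
    (htriv : ∀ x ∈ M, (χ : G → ℂ) x = (χ : G → ℂ) 1) : θ = pri M := by
  by_contra hne
  refine h ?_
  rw [show (fun m : M => (χ : G → ℂ) m) = ((χ : G → ℂ) 1) • (pri M : M → ℂ) from
    funext fun m => by simp [htriv m m.2, pri], classInner_smul_left, irrC_orth, if_neg (Ne.symm hne), mul_zero]

/-- Irreducible characters nontrivial on a perfect normal subgroup do not all have the same degree. -/
theorem no_uniform (M : Subgroup G) [M.Normal] [Fintype M] (hperf : ⁅M, M⁆ = M) (hM : M ≠ ⊥) (d : ℕ)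
    (h : ∀ χ : IrrCharacter G, ¬ (∀ x ∈ M, (χ : G → ℂ) x = (χ : G → ℂ) 1) → deg (χ : G → ℂ) = d) : False := by
  classical
  have hdvd : ∀ θ : IrrCharacter M, θ ≠ pri M → deg (θ : M → ℂ) ∣ d := by
    intro θ hθ
    obtain ⟨χ, hχ⟩ := exists_constituent_over M θ
    obtain ⟨k, hk, -⟩ := deg_over M hχ
    rw [← h χ fun ht => hθ (eq_pri_of_trivial M χ θ hχ ht), hk]
    exact dvd_mul_left _ _
  obtain ⟨θ₀, hθ₀⟩ : ∃ θ : IrrCharacter M, θ ≠ pri M := by
    by_contra hno
    push Not at hno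
    refine hM (Subgroup.card_eq_one.1 ?_)
    have h1 := sum_sq_deg (G := M)
    rw [Finset.sum_eq_single (pri M) (fun θ _ hθ => absurd (hno θ) hθ) (fun hh => absurd (Finset.mem_univ _) hh)] at h1
    simp only [pri, one_pow] at h1
    exact_mod_cast h1.symm
  obtain ⟨p, hp, hpθ⟩ := Nat.exists_prime_and_dvd (n := deg (θ₀ : M → ℂ))
    fun e => hθ₀ (eq_pri_of_linear hperf θ₀ e)
  haveI := Fact.mk hp
  have hpM : p ∣ Nat.card M := hpθ.trans (deg_dvd_card θ₀.2)
  have hpd : p ∣ d := hpθ.trans (hdvd θ₀ hθ₀)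
  obtain ⟨S⟩ : Nonempty (Sylow p G) := inferInstance
  letI := irrConjAct M (S : Subgroup G)
  obtain ⟨θ, hfix, hθ1, hθp⟩ : ∃ θ : IrrCharacter M, θ ∈ MulAction.fixedPoints (S : Subgroup G) (IrrCharacter M) ∧
      θ ≠ pri M ∧ ¬ p ∣ deg (θ : M → ℂ) := by
    by_contra hno
    push Not at hno
    have hinv : ∀ (a : (S : Subgroup G)) (θ : IrrCharacter M),
        deg ((a • θ : IrrCharacter M) : M → ℂ) ^ 2 = deg (θ : M → ℂ) ^ 2 := by
      intro a θ
      congr 1
      have : ((a • θ : IrrCharacter M) : M → ℂ) 1 = (θ : M → ℂ) 1 := by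
        show (irrComp (MulAut.conjNormal (a : G)⁻¹) θ : M → ℂ) 1 = _
        rw [irrComp_apply, map_one]
      simp only [deg, this]
    have h1 := sum_eq_sum_fixed (A := (S : Subgroup G)) S.isPGroup'
      (fun θ : IrrCharacter M => deg (θ : M → ℂ) ^ 2) hinv
    have h2 : (∑ θ : IrrCharacter M, deg (θ : M → ℂ) ^ 2) = Nat.card M := by
      have h3 := sum_sq_deg (G := M)
      simp only [deg_irr_cast] at h3
      exact_mod_cast h3
    rw [h2, (ZMod.natCast_eq_zero_iff _ _).mpr hpM, Nat.cast_sum,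
      Finset.sum_eq_single (pri M)] at h1
    · simp [pri, deg] at h1
    · intro θ hθ hne
      exact (ZMod.natCast_eq_zero_iff _ _).mpr (dvd_pow (hno θ (Finset.mem_filter.1 hθ).2 hne) two_ne_zero)
    · intro hne
      exact absurd (Finset.mem_filter.2 ⟨Finset.mem_univ _, fun a => Subtype.ext (funext fun m => by
        show (irrComp (MulAut.conjNormal (a : G)⁻¹) (pri M) : M → ℂ) m = _
        simp [pri])⟩) hne
  let Stab : Subgroup G :=
    { carrier := {g | ∀ n : M, (θ : M → ℂ) (MulAut.conjNormal g n) = (θ : M → ℂ) n}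
      one_mem' := fun n => by rw [map_one, MulAut.one_apply]
      mul_mem' := fun {a b} ha hb n => by rw [map_mul, MulAut.mul_apply, ha, hb]
      inv_mem' := fun {a} ha n => by
        rw [← ha (MulAut.conjNormal a⁻¹ n)]
        congr 1
        rw [← MulAut.mul_apply, ← map_mul, mul_inv_cancel, map_one, MulAut.one_apply] }
  have hstab : M ⊔ (S : Subgroup G) ≤ Stab := by
    refine sup_le (fun x hx n => ?_) (fun g hg n => ?_)
    · have e : MulAut.conjNormal x n = (⟨x, hx⟩ : M) * n * (⟨x, hx⟩ : M)⁻¹ :=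
        Subtype.ext (by simp [MulAut.conjNormal_apply])
      rw [e, isClassFunction_character (irr_isCharacter θ.2)]
    · have h1 := congrFun (congrArg Subtype.val (hfix (⟨g, hg⟩⁻¹ : (S : Subgroup G)))) n
      change (θ : M → ℂ) (MulAut.conjNormal ((⟨g, hg⟩⁻¹ : (S : Subgroup G)) : G)⁻¹ n) = (θ : M → ℂ) n at h1
      rwa [Subgroup.coe_inv, inv_inv] at h1
  set E := M ⊔ (S : Subgroup G) with hE
  haveI := Fintype.ofFinite E
  haveI : (M.subgroupOf E).Normal := Subgroup.Normal.comap inferInstance _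
  haveI := Fintype.ofFinite (M.subgroupOf E)
  let e : M.subgroupOf E ≃* M := Subgroup.subgroupOfEquivOfLe le_sup_left
  have hθ' : IsIrrCharacter (M.subgroupOf E) (fun x => (θ : M → ℂ) (e x)) := isIrrCharacter_comp_equiv e θ.2
  have hidx : (M.subgroupOf E).index.Coprime (deg (θ : M → ℂ)) := by
    obtain ⟨i, hi⟩ := S.isPGroup'.exists_card_eq
    have h1 : (M.subgroupOf E).index ∣ p ^ i := by
      rw [← hi, hE, sup_comm, ← Subgroup.relIndex, Subgroup.relIndex_sup_right]
      exact Subgroup.index_dvd_card _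
    exact Nat.Coprime.coprime_dvd_left h1 (((hp.coprime_iff_not_dvd).2 hθp).pow_left i)
  obtain ⟨η, hη, hηres⟩ := exists_extension_of_det_extension (M.subgroupOf E) hθ'
    (fun g n => by
      show (θ : M → ℂ) (e (MulAut.conjNormal g n)) = (θ : M → ℂ) (e n)
      rw [show e (MulAut.conjNormal g n) = MulAut.conjNormal (g : G) (e n) from Subtype.ext (by
        simp [e, Subgroup.subgroupOfEquivOfLe, MulAut.conjNormal_apply])]
      exact hstab g.2 _)
    (deg (θ : M → ℂ)) (by rw [map_one, deg_irr_cast]) hidx 1 (fun n => by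
      obtain ⟨r, ρ, hρ⟩ := irr_isCharacter hθ'
      rw [detChar_eq_hom ρ hρ]
      have := DFunLike.congr_fun (perfect_hom_one hperf ((detHom ρ).comp e.symm.toMonoidHom)) (e n)
      simp only [MonoidHom.comp_apply, MulEquiv.coe_toMonoidHom, MulEquiv.symm_apply_apply,
        MonoidHom.one_apply] at this
      show _ = ((detHom ρ n : ℂˣ) : ℂ)
      rw [this, MonoidHom.one_apply])
  have hηdeg : ¬ p ∣ charDegree η := by
    have h1 := hηres 1
    rw [OneMemClass.coe_one, map_one] at h1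
    have : deg η = deg (θ : M → ℂ) := by simp only [deg, h1]
    rwa [charDegree_eq_deg, this]
  have hEidx : ¬ p ∣ E.index := fun hd => S.not_dvd_index (hd.trans (Subgroup.index_dvd_of_le le_sup_right))
  obtain ⟨χ, hχp, hχη⟩ := exists_pPrime_over hp E ⟨η, hη⟩ hEidx hηdeg
  refine hχp ?_
  rw [charDegree_eq_deg, h χ fun htriv => hθ1 ?_]
  · exact hpd
  have h1 : ∀ x : M, (θ : M → ℂ) x = (θ : M → ℂ) 1 := by
    intro x
    have h2 := constituent_eq_at_ker (isCharacter_comp E.subtype (irr_isCharacter χ.2))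
      (ψ := ⟨η, hη⟩) hχη (x := ((e.symm x : M.subgroupOf E) : E)) (by
        show (χ : G → ℂ) _ = (χ : G → ℂ) _
        rw [map_one]
        exact htriv _ (e.symm x).2)
    have h3 := hηres (e.symm x)
    have h4 := hηres 1
    rw [MulEquiv.apply_symm_apply] at h3
    rw [OneMemClass.coe_one, map_one] at h4
    rw [← h3, ← h4]
    exact h2
  by_contra hne
  have h5 : classInner (θ : M → ℂ) (pri M : M → ℂ) = 0 := by rw [irrC_orth, if_neg hne]
  rw [show (θ : M → ℂ) = ((θ : M → ℂ) 1) • (pri M : M → ℂ) from funext fun m => by simp [h1 m, pri],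
    classInner_smul_left, irrC_orth, if_pos rfl, mul_one] at h5
  exact irr_one_ne_zero θ.2 h5

theorem deg_sum {F : G → ℂ} (m : IrrCharacter G → ℕ) (hm : F = ∑ φ, m φ • (φ : G → ℂ)) {d : ℕ}
    (hd : F 1 = d) : d = ∑ φ : IrrCharacter G, m φ * deg (φ : G → ℂ) := by
  have h := congrFun hm 1
  simp only [Finset.sum_apply, Pi.smul_apply, Pi.mul_apply, Pi.natCast_apply, deg_irr_cast, nsmul_eq_mul, hd] at h
  exact_mod_cast h

/-- The conjugate of an irreducible character. -/
noncomputable def irrConj (χ : IrrCharacter G) : IrrCharacter G :=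
  ⟨fun g => conj ((χ : G → ℂ) g), isIrr_of_norm_one (isCharacter_conj (irr_isCharacter χ.2)) (by
    have h := irr_self χ.2
    simp only [classInner] at h ⊢
    rw [← h]
    congr 1
    exact Finset.sum_congr rfl fun g _ => by rw [Complex.conj_conj, mul_comm])⟩

theorem deg_irrConj (χ : IrrCharacter G) : deg (irrConj χ : G → ℂ) = deg (χ : G → ℂ) := by
  simp [deg, irrConj]

theorem linear_in_product (χ χ' φ : IrrCharacter G) (hφ : deg (φ : G → ℂ) = 1)
    (h : classInner ((χ : G → ℂ) * (χ' : G → ℂ)) (φ : G → ℂ) ≠ 0) :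
    ∃ l : G →* ℂˣ, ∀ g, (χ' : G → ℂ) g = (l g : ℂ) * conj ((χ : G → ℂ) g) := by
  obtain ⟨l, hl⟩ := exists_hom_of_degree_one (irr_isCharacter φ.2) (by rw [deg_irr_cast, hφ, Nat.cast_one])
  refine ⟨l, fun g => ?_⟩
  let ψ : IrrCharacter G := ⟨_, isIrr_linear_mul (irrConj χ).2 l⟩
  have h1 : classInner ((χ : G → ℂ) * (χ' : G → ℂ)) (φ : G → ℂ) = classInner (χ' : G → ℂ) (ψ : G → ℂ) := by
    rw [hl]
    simp only [classInner, Pi.mul_apply, ψ, irrConj, map_mul, Complex.conj_conj]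
    congr 1
    exact Finset.sum_congr rfl fun g _ => by ring
  rw [h1, irrC_orth] at h
  have h2 : χ' = ψ := by
    by_contra hne
    exact h (if_neg hne)
  rw [h2]
  rfl

theorem conj_hom (l : G →* ℂˣ) (g : G) : conj (l g : ℂ) = (((l g)⁻¹ : ℂˣ) : ℂ) := by
  rw [← char_inv (isCharacter_linear l) g, map_inv]

/-- Constituents of a product of two characters of the smaller degree. -/
theorem product_small {a b : ℕ} (ha : 0 < a) (hab : a < b) (hcop : a.Coprime b)
    (hdeg : ∀ φ : IrrCharacter G, deg (φ : G → ℂ) = 1 ∨ deg (φ : G → ℂ) = a ∨ deg (φ : G → ℂ) = b)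
    (χ χ' : IrrCharacter G) (hχ : deg (χ : G → ℂ) = a) (hχ' : deg (χ' : G → ℂ) = a)
    (ξ : IrrCharacter G) (hξ : deg (ξ : G → ℂ) = b)
    (h : classInner ((χ : G → ℂ) * (χ' : G → ℂ)) (ξ : G → ℂ) ≠ 0) :
    ∃ l : G →* ℂˣ, ∀ g, (χ' : G → ℂ) g = (l g : ℂ) * conj ((χ : G → ℂ) g) := by
  classical
  by_contra hno
  obtain ⟨m, hm⟩ := exists_decomposition (isCharacter_mul (irr_isCharacter χ.2) (irr_isCharacter χ'.2))
  have hsum := deg_sum m hm (d := a * a) (by rw [Pi.mul_apply, deg_irr_cast, deg_irr_cast, hχ, hχ', Nat.cast_mul])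
  set B := Finset.univ.filter fun φ : IrrCharacter G => deg (φ : G → ℂ) = b with hB
  rw [← Finset.sum_filter_add_sum_filter_not _ (fun φ : IrrCharacter G => deg (φ : G → ℂ) = b), ← hB,
    Finset.sum_congr rfl (s₁ := B) (g := fun φ => m φ * b) (fun φ hφ => by rw [(Finset.mem_filter.1 hφ).2]),
    ← Finset.sum_mul] at hsum
  have hy : a ∣ (∑ φ ∈ B, m φ) * b := by
    refine (Nat.dvd_add_left (c := _) ?_).1 (hsum ▸ dvd_mul_right a a)
    refine Finset.dvd_sum fun φ hφ => ?_
    rcases hdeg φ with h1 | h1 | h1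
    · by_cases hm0 : m φ = 0
      · rw [hm0, zero_mul]; exact dvd_zero a
      · exact absurd (linear_in_product χ χ' φ h1 (by
          rw [decomposition_coeff m hm φ]; exact Nat.cast_ne_zero.2 hm0)) hno
    · rw [h1]; exact dvd_mul_left a _
    · exact absurd h1 (Finset.mem_filter.1 hφ).2
  obtain ⟨c, hc⟩ := hcop.dvd_of_dvd_mul_right hy
  have hpos : 0 < ∑ φ ∈ B, m φ := by
    refine lt_of_lt_of_le (Nat.pos_of_ne_zero fun h0 => h ?_)
      (Finset.single_le_sum (fun φ _ => Nat.zero_le (m φ)) (Finset.mem_filter.2 ⟨Finset.mem_univ ξ, hξ⟩))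
    rw [decomposition_coeff m hm ξ, h0, Nat.cast_zero]
  have hc0 : 0 < c := Nat.pos_of_ne_zero fun h0 => by rw [h0, mul_zero] at hc; omega
  have h3 : a * b ≤ a * c * b := by
    calc a * b = a * 1 * b := by rw [mul_one]
      _ ≤ a * c * b := Nat.mul_le_mul_right b (Nat.mul_le_mul_left a hc0)
  rw [hc] at hsum
  have h4 : a * a < a * b := (Nat.mul_lt_mul_left ha).2 hab
  omega

/-- The main contradiction. -/
theorem no_link {a b : ℕ} (ha : 1 < a) (hab : a < b) (hcop : a.Coprime b)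
    (hdeg : ∀ φ : IrrCharacter G, deg (φ : G → ℂ) = 1 ∨ deg (φ : G → ℂ) = a ∨ deg (φ : G → ℂ) = b)
    (M : Subgroup G) [M.Normal] [Fintype M] (hperf : ⁅M, M⁆ = M)
    (hfaith : ∀ φ : IrrCharacter G, ¬ (∀ x ∈ M, (φ : G → ℂ) x = (φ : G → ℂ) 1) →
      ∀ g, (φ : G → ℂ) g = (φ : G → ℂ) 1 → g = 1)
    (χ χ' ξ : IrrCharacter G) (hχ : deg (χ : G → ℂ) = a) (hχ' : deg (χ' : G → ℂ) = a)
    (hξ : deg (ξ : G → ℂ) = b) (hχM : ¬ ∀ x ∈ M, (χ : G → ℂ) x = (χ : G → ℂ) 1)
    (hξM : ¬ ∀ x ∈ M, (ξ : G → ℂ) x = (ξ : G → ℂ) 1)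
    (h : classInner ((χ : G → ℂ) * (χ' : G → ℂ)) (ξ : G → ℂ) ≠ 0) : False := by
  classical
  obtain ⟨l, hl⟩ := product_small (by omega) hab hcop hdeg χ χ' hχ hχ' ξ hξ h
  let ξ' : IrrCharacter G := ⟨_, isIrr_linear_mul ξ.2 l⁻¹⟩
  have hξ'M : ∀ x ∈ M, (ξ' : G → ℂ) x = (ξ : G → ℂ) x := fun x hx => by
    show ((l⁻¹ : G →* ℂˣ) x : ℂ) * (ξ : G → ℂ) x = _
    rw [hom_trivial_on hperf l⁻¹ x hx, Units.val_one, one_mul]
  have hξ'1 : (ξ' : G → ℂ) 1 = (ξ : G → ℂ) 1 := hξ'M 1 M.one_mem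
  have hξ' : deg (ξ' : G → ℂ) = b := by rw [← hξ]; simp only [deg, hξ'1]
  have hlink : classInner ((χ : G → ℂ) * (ξ' : G → ℂ)) (χ : G → ℂ) ≠ 0 := by
    intro h0
    refine h ?_
    rw [← classInner_symm] at h0
    rw [show classInner ((χ : G → ℂ) * (χ' : G → ℂ)) (ξ : G → ℂ) =
      classInner (χ : G → ℂ) ((χ : G → ℂ) * (ξ' : G → ℂ)) from ?_]
    · simpa using h0
    simp only [classInner, Pi.mul_apply, hl, ξ', map_mul, MonoidHom.inv_apply]
    congr 1
    refine Finset.sum_congr rfl fun g _ => ?_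
    rw [← MonoidHom.inv_apply, conj_hom, MonoidHom.inv_apply, inv_inv]
    ring
  obtain ⟨m, hm⟩ := exists_decomposition (isCharacter_mul (irr_isCharacter χ.2) (irr_isCharacter ξ'.2))
  have hne : ∀ φ : IrrCharacter G, m φ ≠ 0 →
      classInner ((χ : G → ℂ) * (ξ' : G → ℂ)) (φ : G → ℂ) ≠ 0 := fun φ h0 => by
    rw [decomposition_coeff m hm φ]; exact Nat.cast_ne_zero.2 h0
  have hno1 : ∀ φ : IrrCharacter G, m φ ≠ 0 → deg (φ : G → ℂ) ≠ 1 := by
    intro φ h0 h1
    obtain ⟨l', hl'⟩ := linear_in_product χ ξ' φ h1 (hne φ h0)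
    have h2 := hl' 1
    rw [map_one, Units.val_one, one_mul, deg_irr_cast, deg_irr_cast, hξ', hχ, map_natCast] at h2
    exact absurd (Nat.cast_injective h2) hab.ne'
  have hsum := deg_sum m hm (d := a * b) (by rw [Pi.mul_apply, deg_irr_cast, deg_irr_cast, hχ, hξ', Nat.cast_mul])
  -- all constituents have the smaller degree
  have hall : ∀ φ : IrrCharacter G, m φ ≠ 0 → deg (φ : G → ℂ) = a := by
    intro φ h0
    rcases hdeg φ with h1 | h1 | h1
    · exact absurd h1 (hno1 φ h0)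
    · exact h1
    exfalso
    set A := Finset.univ.filter fun φ : IrrCharacter G => deg (φ : G → ℂ) = a with hA
    have hx0 : 0 < ∑ φ ∈ A, m φ := by
      refine lt_of_lt_of_le (Nat.pos_of_ne_zero fun h0 => hlink ?_)
        (Finset.single_le_sum (fun φ _ => Nat.zero_le (m φ)) (Finset.mem_filter.2 ⟨Finset.mem_univ χ, hχ⟩))
      rw [decomposition_coeff m hm χ, h0, Nat.cast_zero]
    rw [← Finset.sum_filter_add_sum_filter_not _ (fun φ : IrrCharacter G => deg (φ : G → ℂ) = a), ← hA,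
      Finset.sum_congr rfl (s₁ := A) (g := fun φ => m φ * a) (fun φ hφ => by rw [(Finset.mem_filter.1 hφ).2]),
      ← Finset.sum_mul] at hsum
    have hB : b ∣ ∑ φ ∈ Finset.univ.filter (fun φ : IrrCharacter G => ¬ deg (φ : G → ℂ) = a), m φ * deg (φ : G → ℂ) := by
      refine Finset.dvd_sum fun ψ hψ => ?_
      rcases hdeg ψ with h2 | h2 | h2
      · by_cases hm0 : m ψ = 0
        · rw [hm0, zero_mul]; exact dvd_zero b
        · exact absurd h2 (hno1 ψ hm0)
      · exact absurd h2 (Finset.mem_filter.1 hψ).2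
      · rw [h2]; exact dvd_mul_left b _
    have hpos : 0 < ∑ φ ∈ Finset.univ.filter (fun φ : IrrCharacter G => ¬ deg (φ : G → ℂ) = a), m φ * deg (φ : G → ℂ) :=
      lt_of_lt_of_le (Nat.mul_pos (Nat.pos_of_ne_zero h0) (deg_pos φ.2))
        (Finset.single_le_sum (f := fun φ : IrrCharacter G => m φ * deg (φ : G → ℂ)) (fun _ _ => Nat.zero_le _)
          (Finset.mem_filter.2 ⟨Finset.mem_univ φ, by omega⟩))
    obtain ⟨c, hc⟩ := hcop.symm.dvd_of_dvd_mul_right
      ((Nat.dvd_add_left hB).1 (hsum ▸ dvd_mul_left b a))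
    have hc0 : 0 < c := Nat.pos_of_ne_zero fun h0 => by rw [h0, mul_zero] at hc; omega
    rw [hc] at hsum
    have : a * b ≤ b * c * a := by
      calc a * b = b * 1 * a := by ring
        _ ≤ b * c * a := Nat.mul_le_mul_right a (Nat.mul_le_mul_left b hc0)
    omega
  -- the constituents agree with `χ` on `M`
  have hres : ∀ φ : IrrCharacter G, m φ ≠ 0 → ∀ x ∈ M, (φ : G → ℂ) x = (χ : G → ℂ) x := by
    intro φ h0 x hx
    have h2 : classInner ((irrConj χ : G → ℂ) * (φ : G → ℂ)) (ξ' : G → ℂ) ≠ 0 := by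
      intro h3
      refine hne φ h0 ?_
      rw [← classInner_symm] at h3 ⊢
      have h4 : classInner (φ : G → ℂ) ((χ : G → ℂ) * (ξ' : G → ℂ)) =
          classInner ((irrConj χ : G → ℂ) * (φ : G → ℂ)) (ξ' : G → ℂ) := by
        simp only [classInner, Pi.mul_apply, irrConj, map_mul]
        congr 1
        exact Finset.sum_congr rfl fun g _ => by ring
      rw [h4, ← classInner_symm, h3, map_zero]
    obtain ⟨l', hl'⟩ := product_small (by omega) hab hcop hdeg (irrConj χ) φ (by rw [deg_irrConj, hχ])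
      (hall φ h0) ξ' hξ' h2
    rw [hl' x, hom_trivial_on hperf l' x hx, Units.val_one, one_mul]
    exact Complex.conj_conj _
  have hmb : ∑ φ : IrrCharacter G, m φ = b := by
    rw [Finset.sum_congr rfl (g := fun φ => m φ * a) (fun φ _ => by
      by_cases h0 : m φ = 0
      · rw [h0, zero_mul, zero_mul]
      · rw [hall φ h0]), ← Finset.sum_mul, mul_comm a b] at hsum
    exact (Nat.eq_of_mul_eq_mul_right (by omega) hsum).symm
  have hvan : ∀ x ∈ M, x ≠ 1 → (χ : G → ℂ) x = 0 := by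
    intro x hx hx1
    have h1 := congrFun hm x
    rw [Pi.mul_apply, Finset.sum_apply, Finset.sum_congr rfl (g := fun φ => (m φ : ℂ) * (χ : G → ℂ) x) (fun φ _ => by
      rw [Pi.smul_apply, nsmul_eq_mul]
      by_cases h0 : m φ = 0
      · rw [h0, Nat.cast_zero, zero_mul, zero_mul]
      · rw [hres φ h0 x hx]), ← Finset.sum_mul, ← Nat.cast_sum, hmb, hξ'M x hx] at h1
    by_contra hne0
    refine hx1 (hfaith ξ hξM x ?_)
    rw [deg_irr_cast, hξ]
    exact mul_left_cancel₀ hne0 (h1.trans (mul_comm _ _))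
  refine hχM fun x hx => trivial_on_of_constituent M χ (fun h0 => ?_) ⟨x, hx⟩
  rw [classInner, Finset.sum_eq_single (1 : M) (fun y _ hy => by
      rw [hvan y y.2 fun e => hy (Subtype.ext e), zero_mul]) (fun hh => absurd (Finset.mem_univ _) hh)] at h0
  simp only [OneMemClass.coe_one, map_one, mul_one] at h0
  rcases mul_eq_zero.1 h0 with h1 | h1
  · exact inv_ne_zero (Nat.cast_ne_zero.2 Nat.card_pos.ne') h1
  · exact irr_one_ne_zero χ.2 h1

/-- Every constituent of a power of a faithful character of the smaller degree avoids the large faithful ones. -/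
theorem no_pair {a b : ℕ} (ha : 1 < a) (hab : a < b) (hcop : a.Coprime b)
    (hdeg : ∀ φ : IrrCharacter G, deg (φ : G → ℂ) = 1 ∨ deg (φ : G → ℂ) = a ∨ deg (φ : G → ℂ) = b)
    (M : Subgroup G) [M.Normal] [Fintype M] (hperf : ⁅M, M⁆ = M)
    (hfaith : ∀ φ : IrrCharacter G, ¬ (∀ x ∈ M, (φ : G → ℂ) x = (φ : G → ℂ) 1) →
      ∀ g, (φ : G → ℂ) g = (φ : G → ℂ) 1 → g = 1)
    (χ₀ ξ₀ : IrrCharacter G) (hχ₀ : deg (χ₀ : G → ℂ) = a) (hξ₀ : deg (ξ₀ : G → ℂ) = b)
    (hχM : ¬ ∀ x ∈ M, (χ₀ : G → ℂ) x = (χ₀ : G → ℂ) 1)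
    (hξM : ¬ ∀ x ∈ M, (ξ₀ : G → ℂ) x = (ξ₀ : G → ℂ) 1) : False := by
  classical
  obtain ⟨d, ρ, -, hρ⟩ := id χ₀.2
  have hinj : Function.Injective ρ := by
    intro g k hgk
    have h1 : ρ (g⁻¹ * k) = 1 := by rw [map_mul, ← hgk, ← map_mul, inv_mul_cancel, map_one]
    refine inv_mul_eq_one.1 (hfaith χ₀ hχM _ ?_)
    rw [← hρ]
    show LinearMap.trace ℂ _ (ρ (g⁻¹ * k)) = LinearMap.trace ℂ _ (ρ 1)
    rw [h1, map_one ρ]
  obtain ⟨i, -, hi⟩ := Cfsg.Agent.S0168.result ρ hinj (ξ₀ : G → ℂ) ξ₀.2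
  suffices key : ∀ (j : ℕ) (φ : IrrCharacter G), classInner (fun g => (χ₀ : G → ℂ) g ^ j) (φ : G → ℂ) ≠ 0 →
      deg (φ : G → ℂ) = b → ∀ x ∈ M, (φ : G → ℂ) x = (φ : G → ℂ) 1 by
    refine hξM (key i ξ₀ ?_ hξ₀)
    rw [← hρ]
    exact hi
  have hchar : ∀ j, IsCharacter G (fun g => (χ₀ : G → ℂ) g ^ j) := by
    intro j
    induction j with
    | zero => simpa using isCharacter_one
    | succ j ih =>
      have e : (fun g => (χ₀ : G → ℂ) g ^ (j + 1)) = (fun g => (χ₀ : G → ℂ) g ^ j) * (χ₀ : G → ℂ) :=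
        funext fun g => pow_succ _ _
      rw [e]
      exact isCharacter_mul ih (irr_isCharacter χ₀.2)
  intro j
  induction j with
  | zero =>
    intro φ hφ hb
    simp only [pow_zero] at hφ
    rw [show classInner (fun _ : G => (1 : ℂ)) (φ : G → ℂ) = _ from irrC_orth (pri G) φ] at hφ
    have : pri G = φ := by by_contra hne; exact hφ (if_neg hne)
    rw [← this] at hb
    simp [pri, deg] at hb
    omega
  | succ j ih =>
    intro φ hφ hb x hx
    obtain ⟨m, hm⟩ := exists_decomposition (hchar j)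
    have e : (fun g => (χ₀ : G → ℂ) g ^ (j + 1)) =
        ∑ θ : IrrCharacter G, (m θ : ℂ) • ((χ₀ : G → ℂ) * (θ : G → ℂ)) := by
      funext g
      rw [pow_succ]
      have h1 := congrFun hm g
      simp only [Finset.sum_apply, Pi.smul_apply, Pi.mul_apply, Pi.natCast_apply, nsmul_eq_mul] at h1
      rw [h1, Finset.sum_apply, Finset.sum_mul]
      simp only [Pi.smul_apply, Pi.mul_apply, smul_eq_mul]
      exact Finset.sum_congr rfl fun θ _ => by ring
    rw [e, classInner_sum_left] at hφ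
    obtain ⟨θ, -, hθ⟩ := Finset.exists_ne_zero_of_sum_ne_zero hφ
    rw [classInner_smul_left] at hθ
    obtain ⟨hm0, hθφ⟩ := mul_ne_zero_iff.1 hθ
    by_contra hxne
    have hφM : ¬ ∀ x ∈ M, (φ : G → ℂ) x = (φ : G → ℂ) 1 := fun hh => hxne (hh x hx)
    rcases hdeg θ with h1 | h1 | h1
    · obtain ⟨l, hl⟩ := exists_hom_of_degree_one (irr_isCharacter θ.2) (by rw [deg_irr_cast, h1, Nat.cast_one])
      let ψ : IrrCharacter G := ⟨_, isIrr_linear_mul χ₀.2 l⟩
      rw [show (χ₀ : G → ℂ) * (θ : G → ℂ) = (ψ : G → ℂ) from funext fun g => by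
        rw [Pi.mul_apply, hl, mul_comm], irrC_orth] at hθφ
      have h2 : ψ = φ := by by_contra hne; exact hθφ (if_neg hne)
      have h3 : deg (ψ : G → ℂ) = a := by
        rw [← hχ₀]
        simp [deg, ψ]
      rw [h2, hb] at h3
      omega
    · exact no_link ha hab hcop hdeg M hperf hfaith χ₀ θ φ hχ₀ h1 hb hχM hφM hθφ
    · have hθtriv := ih θ (by rw [decomposition_coeff m hm θ]; exact hm0) h1
      obtain ⟨η, hη⟩ : ∃ η : IrrCharacter M, classInner (fun n : M => (φ : G → ℂ) n) (η : M → ℂ) ≠ 0 := by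
        by_contra hno
        push Not at hno
        obtain ⟨c, hc⟩ := exists_decomposition (isCharacter_comp M.subtype (irr_isCharacter φ.2))
        refine irr_one_ne_zero φ.2 ?_
        have h2 := congrFun hc 1
        rw [Function.comp_apply, map_one, Finset.sum_apply, Finset.sum_eq_zero fun η _ => by
          have : (c η : ℂ) = 0 := (decomposition_coeff c hc η).symm.trans (hno η)
          rw [Nat.cast_eq_zero.1 this, zero_smul]; rfl] at h2
        exact h2
      have hη1 : η ≠ pri M := fun e2 => hφM fun y hy => trivial_on_of_constituent M φ (by rw [e2] at hη; exact hη) ⟨y, hy⟩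
      obtain ⟨c, hc⟩ := exists_decomposition (isCharacter_mul (irr_isCharacter χ₀.2) (irr_isCharacter θ.2))
      have hcφ : c φ ≠ 0 := fun h0 => hθφ (by rw [decomposition_coeff c hc φ, h0, Nat.cast_zero])
      have hχη : classInner (fun n : M => (χ₀ : G → ℂ) n) (η : M → ℂ) ≠ 0 := by
        intro h0
        have h2 : (fun n : M => ((χ₀ : G → ℂ) * (θ : G → ℂ)) n) = (b : ℂ) • fun n : M => (χ₀ : G → ℂ) n :=
          funext fun n => by simp [hθtriv n n.2, deg_irr_cast, h1, mul_comm]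
        have h3 : classInner (fun n : M => ((χ₀ : G → ℂ) * (θ : G → ℂ)) n) (η : M → ℂ) = 0 := by
          rw [h2, classInner_smul_left, h0, mul_zero]
        rw [show (fun n : M => ((χ₀ : G → ℂ) * (θ : G → ℂ)) n) =
            ∑ ψ : IrrCharacter G, (c ψ : ℂ) • fun n : M => (ψ : G → ℂ) n from funext fun n => by
          rw [congrFun hc n]; simp, classInner_sum_left] at h3
        choose k hk using fun ψ : IrrCharacter G =>
          classInner_natCast (isCharacter_comp M.subtype (irr_isCharacter ψ.2)) (irr_isCharacter η.2)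
        simp only [classInner_smul_left] at h3
        rw [Finset.sum_congr rfl (g := fun ψ => ((c ψ * k ψ : ℕ) : ℂ)) (fun ψ _ => by
          rw [Nat.cast_mul, ← hk ψ]; rfl), ← Nat.cast_sum, Nat.cast_eq_zero,
          Finset.sum_eq_zero_iff] at h3
        rcases Nat.mul_eq_zero.1 (h3 φ (Finset.mem_univ φ)) with h4 | h4
        · exact hcφ h4
        · refine hη ?_
          have := hk φ
          rw [h4, Nat.cast_zero] at this
          exact this
      refine hη1 (eq_pri_of_linear hperf η (Nat.eq_one_of_dvd_coprimes hcop ?_ ?_))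
      · exact hχ₀ ▸ PrimeDegrees.deg_dvd_of_constituent M hχη
      · exact hb ▸ PrimeDegrees.deg_dvd_of_constituent M hη

/-- Groups with at most three degrees are solvable. -/
theorem isSolvable_of_three : ∀ (n : ℕ) (G : Type u) [Group G] [Fintype G], Nat.card G = n →
    (degSet G).card ≤ 3 → Group.IsSolvable G := by
  intro n
  induction n using Nat.strong_induction_on with
  | _ n ih =>
    intro G _ _ hn hcard
    classical
    by_cases hab : degSet G ⊆ {1}
    · letI : CommGroup G := { ‹Group G› with mul_comm := comm_of_degSet_subset_one hab }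
      infer_instance
    obtain ⟨d₀, hd₀, hd₁⟩ := Finset.not_subset.1 hab
    rw [Finset.mem_singleton] at hd₁
    by_cases hp : ∃ p : ℕ, p.Prime ∧ ∀ d ∈ degSet G, d ≠ 1 → p ∣ d
    · obtain ⟨p, hp, hdiv⟩ := hp
      obtain ⟨N, hN, ⟨k, hk⟩, hsub, hlt⟩ := complement_degs hp hdiv
      haveI := hN
      haveI := Fact.mk hp
      haveI := Fintype.ofFinite N
      haveI : Group.IsSolvable N := ih _ (hn ▸ hlt ⟨d₀, hd₀, hd₁⟩) N rfl
        ((Finset.card_le_card hsub).trans (Finset.card_image_le.trans hcard))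
      haveI : Group.IsNilpotent (G ⧸ N) :=
        (IsPGroup.of_card (by rw [← Subgroup.index_eq_card, hk]) : IsPGroup p (G ⧸ N)).isNilpotent
      exact Group.isSolvable_of_ker_le_range N.subtype (QuotientGroup.mk' N) (by simp)
    push Not at hp
    obtain ⟨a, b, ha, hlt, hcop, hset⟩ := exists_coprime_pair hcard hp
    have hdeg : ∀ φ : IrrCharacter G, deg (φ : G → ℂ) = 1 ∨ deg (φ : G → ℂ) = a ∨ deg (φ : G → ℂ) = b :=
      fun φ => by simpa [hset] using mem_degSet φ
    by_cases hex : ∃ N : Subgroup G, N.Normal ∧ N ≠ ⊥ ∧ Group.IsSolvable N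
    · obtain ⟨N, hN, hN0, hNs⟩ := hex
      haveI := hN
      haveI := hNs
      haveI := Fintype.ofFinite (G ⧸ N)
      haveI : Group.IsSolvable (G ⧸ N) := ih _ (hn ▸ card_quotient_lt hN0) _ rfl
        ((Finset.card_le_card (degSet_quotient_subset N)).trans hcard)
      exact Group.isSolvable_of_ker_le_range N.subtype (QuotientGroup.mk' N) (by simp)
    push Not at hex
    exfalso
    obtain ⟨M, -, hMmin⟩ := Finite.exists_le_minimal
      (p := fun N : Subgroup G => N.Normal ∧ N ≠ ⊥) (a := (⊤ : Subgroup G))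
      ⟨inferInstance, fun e => hd₁ (by
        haveI : Subsingleton G := Subgroup.subsingleton_iff.1 (subsingleton_iff_bot_eq_top.1 e.symm)
        obtain ⟨χ, rfl⟩ := exists_of_mem_degSet hd₀
        exact Nat.dvd_one.1 (Nat.card_unique (α := G) ▸ deg_dvd_card χ.2))⟩
    obtain ⟨hMn, hM0⟩ := hMmin.1
    haveI := hMn
    haveI := Fintype.ofFinite M
    have hperf : ⁅M, M⁆ = M := by
      by_cases h0 : ⁅M, M⁆ = ⊥
      · refine absurd ?_ (hex M hMn hM0)
        letI : CommGroup M :=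
          { (inferInstance : Group M) with
            mul_comm := fun x y => Subtype.ext (commutatorElement_eq_one_iff_mul_comm.1
              (Subgroup.mem_bot.1 (h0 ▸ Subgroup.commutator_mem_commutator x.2 y.2))) }
        infer_instance
      · exact le_antisymm (Subgroup.commutator_le_self M)
          (hMmin.2 ⟨inferInstance, h0⟩ (Subgroup.commutator_le_self M))
    have huniq : ∀ N : Subgroup G, N.Normal → N ≠ ⊥ → M ≤ N := by
      intro N hN hN0
      haveI := hN
      by_contra hMN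
      have h0 : M ⊓ N = ⊥ := by
        by_contra h1
        exact hMN ((hMmin.2 ⟨inferInstance, h1⟩ inf_le_left).trans inf_le_right)
      haveI := Fintype.ofFinite (G ⧸ N)
      haveI : Group.IsSolvable (G ⧸ N) := ih _ (hn ▸ card_quotient_lt hN0) _ rfl
        ((Finset.card_le_card (degSet_quotient_subset N)).trans hcard)
      refine hex M hMn hM0 (solvable_of_solvable_injective (f := (QuotientGroup.mk' N).comp M.subtype) ?_)
      rw [injective_iff_map_eq_one]
      intro x hx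
      refine Subtype.ext (Subgroup.mem_bot.1 (h0 ▸ Subgroup.mem_inf.2 ⟨x.2, ?_⟩))
      exact (QuotientGroup.eq_one_iff (x : G)).1 hx
    have hfaith : ∀ φ : IrrCharacter G, ¬ (∀ x ∈ M, (φ : G → ℂ) x = (φ : G → ℂ) 1) →
        ∀ g, (φ : G → ℂ) g = (φ : G → ℂ) 1 → g = 1 := by
      intro φ hφ g hg
      obtain ⟨K, hK, hKm⟩ := exists_charKernel (irr_isCharacter φ.2)
      by_contra hg1
      refine hφ fun x hx => (hKm x).1 (huniq K hK (fun e => hg1 ?_) hx)
      exact Subgroup.mem_bot.1 (e ▸ (hKm g).2 hg)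
    have hnt : ∀ φ : IrrCharacter G, ¬ (∀ x ∈ M, (φ : G → ℂ) x = (φ : G → ℂ) 1) → deg (φ : G → ℂ) ≠ 1 := by
      intro φ hφ h1
      obtain ⟨l, hl⟩ := exists_hom_of_degree_one (irr_isCharacter φ.2) (by rw [deg_irr_cast, h1, Nat.cast_one])
      exact hφ fun x hx => by rw [hl]; simp [hom_trivial_on hperf l x hx]
    obtain ⟨χ₀, hχM, hχ₀⟩ : ∃ χ : IrrCharacter G, ¬ (∀ x ∈ M, (χ : G → ℂ) x = (χ : G → ℂ) 1) ∧
        deg (χ : G → ℂ) = a := by
      by_contra hno
      refine no_uniform M hperf hM0 b fun χ hχ => ?_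
      rcases hdeg χ with h | h | h
      · exact absurd h (hnt χ hχ)
      · exact absurd ⟨χ, hχ, h⟩ hno
      · exact h
    obtain ⟨ξ₀, hξM, hξ₀⟩ : ∃ χ : IrrCharacter G, ¬ (∀ x ∈ M, (χ : G → ℂ) x = (χ : G → ℂ) 1) ∧
        deg (χ : G → ℂ) = b := by
      by_contra hno
      refine no_uniform M hperf hM0 a fun χ hχ => ?_
      rcases hdeg χ with h | h | h
      · exact absurd h (hnt χ hχ)
      · exact h
      · exact absurd ⟨χ, hχ, h⟩ hno
    exact no_pair ha hlt hcop hdeg M hperf hfaith χ₀ ξ₀ hχ₀ hξ₀ hχM hξM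

end Cfsg.Agent.Solv.FewDeg
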