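import Cfsg.Agent.Lib.Solv.FewDeg.Basic
import Cfsg.Agent.Lib.Char.CliffordInd
import Cfsg.Agent.Lib.Char.LinearExt

/-!
# The minimal nonabelian quotient and lifting of degrees from its kernel
-/

open scoped ComplexConjugate commutatorElement
open Cfsg Cfsg.Agent.Char

set_option autoImplicit false
set_option linter.style.haveILetI false
set_option linter.unusedSectionVars false

namespace Cfsg.Agent.Solv.FewDeg

universe u

theorem comm_mem_commutator {Q : Type u} [Group Q] (x y : Q) : x * y * x⁻¹ * y⁻¹ ∈ commutator Q :=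
  Subgroup.commutator_mem_commutator (Subgroup.mem_top x) (Subgroup.mem_top y)

/-- The commutator subgroup of a solvable nonabelian group all whose proper quotients are abelian. -/
theorem commutator_minimal {Q : Type u} [Group Q] [Group.IsSolvable Q]
    (hna : ¬ ∀ a b : Q, a * b = b * a) (hmin : ∀ N : Subgroup Q, N.Normal → N ≠ ⊥ → commutator Q ≤ N) :
    commutator Q ≠ ⊥ ∧ ∀ a ∈ commutator Q, ∀ b ∈ commutator Q, a * b = b * a := by
  have hV0 : commutator Q ≠ ⊥ := fun e => hna fun a b => by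
    have := comm_mem_commutator a b
    rwa [e, Subgroup.mem_bot, mul_inv_eq_one, mul_inv_eq_iff_eq_mul] at this
  refine ⟨hV0, fun a ha b hb => ?_⟩
  by_contra hab
  have h0 : ⁅commutator Q, commutator Q⁆ ≠ ⊥ := fun e => hab (commutatorElement_eq_one_iff_mul_comm.1
    (Subgroup.mem_bot.1 (e ▸ Subgroup.commutator_mem_commutator ha hb)))
  have hperf : commutator Q ≤ ⁅commutator Q, commutator Q⁆ := hmin _ inferInstance h0
  have hder : ∀ n, commutator Q ≤ derivedSeries Q n := by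
    intro n
    induction n with
    | zero => rw [derivedSeries_zero]; exact le_top
    | succ n ih => rw [derivedSeries_succ]; exact hperf.trans (Subgroup.commutator_mono ih ih)
  obtain ⟨n, hn⟩ := (Group.isSolvable_def Q).1 inferInstance
  exact hV0 (le_bot_iff.1 (hn ▸ hder n))

/-- The structure of a solvable non-nilpotent group all whose proper quotients are abelian. -/
theorem frobenius_quotient {Q : Type u} [Group Q] [Finite Q] [Group.IsSolvable Q]
    (hna : ¬ ∀ a b : Q, a * b = b * a) (hmin : ∀ N : Subgroup Q, N.Normal → N ≠ ⊥ → commutator Q ≤ N)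
    (hnil : ¬ Group.IsNilpotent Q) :
    ∃ q : ℕ, q.Prime ∧ (∀ v ∈ commutator Q, v ^ q = 1) ∧ commutator Q ≠ ⊤ ∧ ¬ q ∣ (commutator Q).index ∧
      ∀ g, g ∉ commutator Q → ∀ v ∈ commutator Q, g * v = v * g → v = 1 := by
  classical
  obtain ⟨hV0, hVab⟩ := commutator_minimal hna hmin
  set V := commutator Q with hV
  haveI hVn : V.Normal := inferInstance
  obtain ⟨q, hq, hqd⟩ := Nat.exists_prime_and_dvd (fun e => hV0 (Subgroup.card_eq_one.1 e))
  haveI := Fact.mk hq
  -- exponent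
  let Ω : Subgroup Q :=
    { carrier := {x | x ∈ V ∧ x ^ q = 1}
      one_mem' := ⟨V.one_mem, one_pow q⟩
      mul_mem' := fun {a b} ha hb => ⟨V.mul_mem ha.1 hb.1, by
        rw [(show Commute a b from hVab a ha.1 b hb.1).mul_pow, ha.2, hb.2, one_mul]⟩
      inv_mem' := fun {a} ha => ⟨V.inv_mem ha.1, by rw [inv_pow, ha.2, inv_one]⟩ }
  have hΩn : Ω.Normal := ⟨fun x hx g => ⟨hVn.conj_mem x hx.1 g, by
    rw [conj_pow, hx.2, mul_one, mul_inv_cancel]⟩⟩
  have hΩ0 : Ω ≠ ⊥ := by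
    obtain ⟨y, hy⟩ := exists_prime_orderOf_dvd_card' q hqd
    intro e
    have hmem : (y : Q) ∈ Ω := ⟨y.2, by
      rw [← Subgroup.coe_pow, ← hy, pow_orderOf_eq_one, Subgroup.coe_one]⟩
    rw [e, Subgroup.mem_bot] at hmem
    have : y = 1 := Subtype.ext hmem
    rw [this, orderOf_one] at hy
    exact hq.ne_one hy.symm
  have hexp : ∀ v ∈ V, v ^ q = 1 := fun v hv => ((hmin Ω hΩn hΩ0) hv).2
  have hcen : ¬ V ≤ Subgroup.center Q := by
    intro hle
    refine hnil ?_
    letI : CommGroup (Q ⧸ V) := { (inferInstance : Group (Q ⧸ V)) with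
      mul_comm := fun a b => by
        obtain ⟨x, rfl⟩ := QuotientGroup.mk_surjective a
        obtain ⟨y, rfl⟩ := QuotientGroup.mk_surjective b
        rw [← QuotientGroup.mk_mul, ← QuotientGroup.mk_mul, QuotientGroup.eq]
        have := comm_mem_commutator y⁻¹ x⁻¹
        rw [inv_inv, inv_inv] at this
        rw [mul_inv_rev]
        simpa [mul_assoc] using this }
    haveI : Group.IsNilpotent (Q ⧸ V) := CommGroup.isNilpotent
    exact Subgroup.isNilpotent_of_ker_le_center (QuotientGroup.mk' V) (by rw [QuotientGroup.ker_mk']; exact hle)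
  -- centralizers in `V` are normal
  have hdich : ∀ g : Q, (∀ v ∈ V, g * v = v * g → v = 1) ∨ ∀ v ∈ V, g * v = v * g := by
    intro g
    let C : Subgroup Q :=
      { carrier := {v | v ∈ V ∧ g * v = v * g}
        one_mem' := ⟨V.one_mem, by rw [mul_one, one_mul]⟩
        mul_mem' := fun {a b} ha hb => ⟨V.mul_mem ha.1 hb.1, (show Commute g a from ha.2).mul_right hb.2⟩
        inv_mem' := fun {a} ha => ⟨V.inv_mem ha.1, (show Commute g a from ha.2).inv_right⟩ }
    have hCn : C.Normal := ⟨fun v hv h => by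
      refine ⟨hVn.conj_mem v hv.1 h, ?_⟩
      have hw : g * (h * g⁻¹ * h⁻¹) ∈ V := by
        have := comm_mem_commutator g h
        simpa [mul_assoc] using this
      have h1 : Commute (h * g * h⁻¹) (h * v * h⁻¹) := by
        show _ = _
        calc h * g * h⁻¹ * (h * v * h⁻¹) = h * (g * v) * h⁻¹ := by group
          _ = h * (v * g) * h⁻¹ := by rw [hv.2]
          _ = h * v * h⁻¹ * (h * g * h⁻¹) := by group
      have h2 : Commute (g * (h * g⁻¹ * h⁻¹)) (h * v * h⁻¹) := hVab _ hw _ (hVn.conj_mem v hv.1 h)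
      have h3 := h2.mul_left h1
      rwa [show g * (h * g⁻¹ * h⁻¹) * (h * g * h⁻¹) = g by group] at h3⟩
    by_cases hC : C = ⊥
    · exact Or.inl fun v hv hc => Subgroup.mem_bot.1 (hC ▸ (show v ∈ C from ⟨hv, hc⟩))
    · exact Or.inr fun v hv => (hmin C hCn hC hv).2
  obtain ⟨x, hx⟩ : ∃ x : Q, ∀ v ∈ V, x * v = v * x → v = 1 := by
    by_contra hno
    push Not at hno
    refine hcen fun v hv => Subgroup.mem_center_iff.2 fun g => ?_
    rcases hdich g with h | h
    · obtain ⟨w, hw, hwc, hw1⟩ := hno g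
      exact absurd (h w hw hwc) hw1
    · exact h v hv
  have hsurj : ∀ w ∈ V, ∃ u ∈ V, w * (x * u * x⁻¹) = u := by
    let φ : V → V := fun v => ⟨(v : Q) * (x * (v : Q) * x⁻¹)⁻¹, V.mul_mem v.2 (V.inv_mem (hVn.conj_mem _ v.2 x))⟩
    have hinj : Function.Injective φ := by
      intro a b e
      have e1 : (a : Q) * (x * (a : Q) * x⁻¹)⁻¹ = (b : Q) * (x * (b : Q) * x⁻¹)⁻¹ := congrArg Subtype.val e
      have e2 : (b : Q)⁻¹ * a = (x * (b : Q) * x⁻¹)⁻¹ * (x * (a : Q) * x⁻¹) := by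
        calc (b : Q)⁻¹ * a = (b : Q)⁻¹ * ((a : Q) * (x * (a : Q) * x⁻¹)⁻¹) * (x * (a : Q) * x⁻¹) := by group
          _ = _ := by rw [e1]; group
      have hm : (b : Q)⁻¹ * a ∈ V := V.mul_mem (V.inv_mem b.2) a.2
      have := hx _ hm (by
        calc x * ((b : Q)⁻¹ * a) = (x * (b : Q) * x⁻¹)⁻¹ * (x * (a : Q) * x⁻¹) * x := by group
          _ = (b : Q)⁻¹ * a * x := by rw [← e2])
      exact Subtype.ext (inv_mul_eq_one.1 this).symm
    intro w hw
    obtain ⟨u, hu⟩ := (Finite.injective_iff_surjective.1 hinj) ⟨w, hw⟩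
    refine ⟨u, u.2, ?_⟩
    have hu' : (u : Q) * (x * (u : Q) * x⁻¹)⁻¹ = w := congrArg Subtype.val hu
    rw [← hu', inv_mul_cancel_right]
  have hcentral : ∀ g : Q, g ∉ V → ∀ v ∈ V, g * v = v * g → v = 1 := by
    intro g hg
    rcases hdich g with h | h
    · exact h
    exfalso
    obtain ⟨u, hu, hwu⟩ := hsurj (x * g * x⁻¹ * g⁻¹) (comm_mem_commutator x g)
    have hg'c : ∀ v ∈ V, g * u * v = v * (g * u) := fun v hv => by
      rw [mul_assoc, hVab u hu v hv, ← mul_assoc, h v hv, mul_assoc]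
    have hxg : x * (g * u) * x⁻¹ = g * u := by
      calc x * (g * u) * x⁻¹ = (x * g * x⁻¹ * g⁻¹) * g * (x * u * x⁻¹) := by group
        _ = g * (x * g * x⁻¹ * g⁻¹) * (x * u * x⁻¹) := by rw [h _ (comm_mem_commutator x g)]
        _ = g * u := by rw [mul_assoc g, hwu]
    have hz : g * u ∈ Subgroup.center Q := by
      rw [Subgroup.mem_center_iff]
      intro y
      have hc : y * (g * u) * y⁻¹ * (g * u)⁻¹ ∈ V := comm_mem_commutator y (g * u)
      have h1 := hx _ hc (by
        have hw : y⁻¹ * (x * y * x⁻¹) ∈ V := by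
          have := comm_mem_commutator y⁻¹ x
          simpa [mul_assoc] using this
        have h2 : x * (y * (g * u) * y⁻¹ * (g * u)⁻¹) * x⁻¹ = y * (g * u) * y⁻¹ * (g * u)⁻¹ := by
          calc x * (y * (g * u) * y⁻¹ * (g * u)⁻¹) * x⁻¹
              = (x * y * x⁻¹) * (x * (g * u) * x⁻¹) * (x * y * x⁻¹)⁻¹ * (x * (g * u) * x⁻¹)⁻¹ := by group
            _ = (x * y * x⁻¹) * (g * u) * (x * y * x⁻¹)⁻¹ * (g * u)⁻¹ := by rw [hxg]
            _ = y * ((y⁻¹ * (x * y * x⁻¹)) * (g * u)) * (y⁻¹ * (x * y * x⁻¹))⁻¹ * y⁻¹ * (g * u)⁻¹ := by group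
            _ = y * ((g * u) * (y⁻¹ * (x * y * x⁻¹))) * (y⁻¹ * (x * y * x⁻¹))⁻¹ * y⁻¹ * (g * u)⁻¹ := by
              rw [hg'c _ hw]
            _ = _ := by group
        exact mul_inv_eq_iff_eq_mul.1 h2)
      rwa [mul_inv_eq_one, mul_inv_eq_iff_eq_mul] at h1
    by_cases hZ : Subgroup.center Q = ⊥
    · rw [hZ, Subgroup.mem_bot] at hz
      exact hg (by rw [eq_inv_of_mul_eq_one_left hz]; exact V.inv_mem hu)
    · exact hcen (hmin _ inferInstance hZ)
  refine ⟨q, hq, hexp, fun e => ?_, fun hd => ?_, hcentral⟩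
  · exact hna fun a b => hVab a (e ▸ Subgroup.mem_top a) b (e ▸ Subgroup.mem_top b)
  obtain ⟨z, hz⟩ := exists_prime_orderOf_dvd_card' (G := Q ⧸ V) q (by rwa [← Subgroup.index_eq_card])
  obtain ⟨g, rfl⟩ := QuotientGroup.mk_surjective z
  have hgV : g ∉ V := fun h => by
    rw [(QuotientGroup.eq_one_iff g).2 h, orderOf_one] at hz
    exact hq.ne_one hz.symm
  have hgq : g ^ q ^ 2 = 1 := by
    have h1 : g ^ q ∈ V := by
      rw [← QuotientGroup.eq_one_iff, QuotientGroup.mk_pow, ← hz]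
      exact pow_orderOf_eq_one _
    rw [pow_two, pow_mul]
    exact hexp _ h1
  have hP : IsPGroup q (Subgroup.zpowers g) := by
    intro w
    obtain ⟨j, hj⟩ := Subgroup.mem_zpowers_iff.1 w.2
    refine ⟨2, Subtype.ext ?_⟩
    rw [Subgroup.coe_pow, ← hj, ← zpow_natCast, ← zpow_mul, mul_comm, zpow_mul, zpow_natCast, hgq, one_zpow,
      Subgroup.coe_one]
  letI : MulAction (Subgroup.zpowers g) V := MulAction.compHom V ((MulAut.conjNormal : Q →* MulAut V).comp (Subgroup.zpowers g).subtype)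
  obtain ⟨v, hv, hv1⟩ := hP.exists_fixed_point_of_prime_dvd_card_of_fixed_point V hqd (a := (1 : V)) fun w => by
    show MulAut.conjNormal (w : Q) (1 : V) = 1
    rw [map_one]
  have h1 : g * (v : Q) * g⁻¹ = v := by
    have h2 : MulAut.conjNormal g v = v := hv ⟨g, Subgroup.mem_zpowers g⟩
    have h3 := congrArg Subtype.val h2
    rwa [MulAut.conjNormal_apply] at h3
  exact hv1 (Subtype.ext (hcentral g hgV v v.2 (mul_inv_eq_iff_eq_mul.1 h1)).symm)

variable {G : Type u} [Group G] [Fintype G]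

open TaketaBound (degSet)

/-- A linear twist fixing a character of degree prime to its order is trivial. -/
theorem twist_free {N : Type u} [Group N] [Fintype N] {q : ℕ} (hq : q.Prime) (ψ : IrrCharacter N)
    (hqd : ¬ q ∣ deg (ψ : N → ℂ)) (ν : N →* ℂˣ) (hν : ∀ n, ν n ^ q = 1)
    (h : ∀ n, (ν n : ℂ) * (ψ : N → ℂ) n = (ψ : N → ℂ) n) : ν = 1 := by
  obtain ⟨d, ρ, hρ⟩ := irr_isCharacter ψ.2
  let ρ' : Representation ℂ N (Fin d → ℂ) :=
    { toFun := fun g => (ν g : ℂ) • ρ g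
      map_one' := by rw [map_one, Units.val_one, one_smul, map_one]
      map_mul' := fun x y => by rw [smul_mul_smul_comm, map_mul, map_mul, Units.val_mul] }
  have hρ' : ρ'.character = (ψ : N → ℂ) := funext fun g => by
    show LinearMap.trace ℂ _ ((ν g : ℂ) • ρ g) = _
    rw [map_smul, smul_eq_mul]
    have e : LinearMap.trace ℂ _ (ρ g) = (ψ : N → ℂ) g := congrFun hρ g
    rw [e, h]
  have h1 := (detChar_eq ρ' hρ').symm.trans (detChar_eq ρ hρ)
  have hd : d = deg (ψ : N → ℂ) := by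
    have := char_one_eq_dim ρ hρ
    rw [char_one_eq_deg (irr_isCharacter ψ.2)] at this
    exact_mod_cast this.symm
  refine MonoidHom.ext fun g => ?_
  have h2 : LinearMap.det ((ν g : ℂ) • ρ g) = LinearMap.det (ρ g) := congrFun h1 g
  rw [LinearMap.det_smul, Module.finrank_fin_fun, ← detHom_apply] at h2
  have h3 : ν g ^ d = 1 := Units.ext (by
    rw [Units.val_pow_eq_pow_val, Units.val_one]
    exact mul_right_cancel₀ (Units.ne_zero (detHom ρ g)) (h2.trans (one_mul _).symm))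
  have h4 := pow_gcd_eq_one.2 ⟨h3, hν g⟩
  rwa [Nat.Coprime.gcd_eq_one ((hq.coprime_iff_not_dvd).2 (hd ▸ hqd)).symm, pow_one] at h4

/-- Lifting degrees from the kernel of a Frobenius quotient. -/
theorem lift_degree (K N : Subgroup G) [K.Normal] [N.Normal] [Fintype N]
    (hGN : ∀ x y : G, x * y * x⁻¹ * y⁻¹ ∈ N) {q : ℕ} (hq : q.Prime) (hexp : ∀ n ∈ N, n ^ q ∈ K)
    (hfpf : ∀ g, g ∉ N → ∀ n ∈ N, g * n * g⁻¹ * n⁻¹ ∈ K → n ∈ K)
    (hab : ∀ a ∈ N, ∀ b ∈ N, a * b * a⁻¹ * b⁻¹ ∈ K) (hne : ¬ N ≤ K)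
    (ψ : IrrCharacter N) (hqd : ¬ q ∣ deg (ψ : N → ℂ)) : N.index * deg (ψ : N → ℂ) ∈ degSet G := by
  classical
  by_contra hnot
  haveI : (K.subgroupOf N).Normal := Subgroup.Normal.comap inferInstance _
  let A := ↥N ⧸ K.subgroupOf N
  letI : CommGroup A := { (inferInstance : Group A) with
    mul_comm := fun a b => by
      obtain ⟨x, rfl⟩ := QuotientGroup.mk_surjective a
      obtain ⟨y, rfl⟩ := QuotientGroup.mk_surjective b
      rw [← QuotientGroup.mk_mul, ← QuotientGroup.mk_mul, QuotientGroup.eq, Subgroup.mem_subgroupOf]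
      have := hab _ (N.inv_mem y.2) _ (N.inv_mem x.2)
      simpa [mul_assoc] using this }
  haveI : Finite A := inferInstance
  -- invariant linear characters are trivial
  have hlin : ∀ (l : N →* ℂˣ), (∀ n : N, (n : G) ∈ K → l n = 1) → ∀ g, g ∉ N →
      (∀ n, l (MulAut.conjNormal g n) = l n) → l = 1 := by
    intro l hl g hg hinv
    let c : N →* N := (MulAut.conjNormal g : MulAut N).toMonoidHom
    let cA : A →* A := QuotientGroup.map (K.subgroupOf N) (K.subgroupOf N) c fun n hn => by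
      rw [Subgroup.mem_comap, Subgroup.mem_subgroupOf]
      show ((MulAut.conjNormal g n : N) : G) ∈ K
      rw [MulAut.conjNormal_apply]
      exact (inferInstance : K.Normal).conj_mem _ hn g
    let φ : A →* A := cA * (MonoidHom.id A)⁻¹
    have hφmk : ∀ n : N, φ (QuotientGroup.mk n) = ((MulAut.conjNormal g n * n⁻¹ : N) : A) := fun n => rfl
    have hinj : Function.Injective φ := by
      rw [injective_iff_map_eq_one]
      intro a ha
      obtain ⟨n, rfl⟩ := QuotientGroup.mk_surjective a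
      rw [hφmk, QuotientGroup.eq_one_iff, Subgroup.mem_subgroupOf, Subgroup.coe_mul, Subgroup.coe_inv,
        MulAut.conjNormal_apply] at ha
      exact (QuotientGroup.eq_one_iff n).2 (hfpf g hg n n.2 ha)
    refine MonoidHom.ext fun n => ?_
    obtain ⟨a, ha⟩ := (Finite.injective_iff_surjective.1 hinj) (n : A)
    obtain ⟨m, rfl⟩ := QuotientGroup.mk_surjective a
    rw [hφmk, QuotientGroup.eq] at ha
    have h1 := hl _ (Subgroup.mem_subgroupOf.1 ha)
    rw [map_mul, map_inv, map_mul, map_inv, hinv, mul_inv_cancel, inv_one, one_mul] at h1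
    exact h1
  have hpow : ∀ (l : N →* ℂˣ), (∀ n : N, (n : G) ∈ K → l n = 1) → ∀ n, l n ^ q = 1 := fun l hl n => by
    rw [← map_pow]
    exact hl _ (hexp n n.2)
  -- every twist is fixed outside `N`
  have hfix : ∀ l : N →* ℂˣ, ∃ g, g ∉ N ∧
      ∀ n, (l (MulAut.conjNormal g n) : ℂ) * (ψ : N → ℂ) (MulAut.conjNormal g n) = (l n : ℂ) * (ψ : N → ℂ) n := by
    intro l
    by_contra hno
    push Not at hno
    refine hnot ?_
    let θ : IrrCharacter N := ⟨_, isIrr_linear_mul ψ.2 l⟩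
    have hirr : IsIrrCharacter G (indFun N (θ : N → ℂ)) := isIrr_indFun_of_inertia N θ fun g hg => by
      by_contra hgN
      obtain ⟨n, hn⟩ := hno g hgN
      refine hn ?_
      exact congrFun (congrArg Subtype.val hg) n
    have hd : deg (indFun N (θ : N → ℂ)) = N.index * deg (ψ : N → ℂ) := Nat.cast_injective (R := ℂ) (by
      rw [← char_one_eq_deg (irr_isCharacter hirr), indFun_one]
      show (N.index : ℂ) * ((l 1 : ℂ) * (ψ : N → ℂ) 1) = _
      rw [map_one, Units.val_one, one_mul, char_one_eq_deg (irr_isCharacter ψ.2), Nat.cast_mul])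
    rw [← hd]
    exact mem_degSet ⟨_, hirr⟩
  obtain ⟨g, hgN, hg⟩ := hfix 1
  simp only [MonoidHom.one_apply, Units.val_one, one_mul] at hg
  obtain ⟨l, hl, hl1⟩ : ∃ l : N →* ℂˣ, (∀ n : N, (n : G) ∈ K → l n = 1) ∧ l ≠ 1 := by
    obtain ⟨x, hx, hxK⟩ := SetLike.not_le_iff_exists.1 hne
    haveI : NeZero (Monoid.exponent A) := ⟨Monoid.exponent_ne_zero_of_finite⟩
    obtain ⟨φ, hφ⟩ := CommGroup.exists_apply_ne_one_of_hasEnoughRootsOfUnity A ℂ
      (a := ((⟨x, hx⟩ : N) : A)) fun e => hxK (Subgroup.mem_subgroupOf.1 ((QuotientGroup.eq_one_iff (⟨x, hx⟩ : N)).1 e))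
    refine ⟨φ.comp (QuotientGroup.mk' _), fun n hn => ?_, fun e => hφ (DFunLike.congr_fun e ⟨x, hx⟩)⟩
    rw [MonoidHom.comp_apply, QuotientGroup.mk'_apply, (QuotientGroup.eq_one_iff n).2 hn, map_one]
  obtain ⟨h, hhN, hh⟩ := hfix l
  have hconjK : ∀ (r : G) (n : N), (n : G) ∈ K → ((MulAut.conjNormal r n : N) : G) ∈ K := fun r n hn => by
    rw [MulAut.conjNormal_apply]
    exact (inferInstance : K.Normal).conj_mem _ hn r
  let μ : N →* ℂˣ := l * (l.comp (MulAut.conjNormal h : MulAut N).toMonoidHom)⁻¹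
  have hμK : ∀ n : N, (n : G) ∈ K → μ n = 1 := fun n hn => by
    show l n * (l (MulAut.conjNormal h n))⁻¹ = 1
    rw [hl n hn, hl _ (hconjK h n hn), inv_one, one_mul]
  have hμ : ∀ n, (ψ : N → ℂ) (MulAut.conjNormal h n) = (μ n : ℂ) * (ψ : N → ℂ) n := fun n => by
    show _ = ((l n * (l (MulAut.conjNormal h n))⁻¹ : ℂˣ) : ℂ) * _
    rw [Units.val_mul, mul_right_comm, ← hh n, mul_comm (l (MulAut.conjNormal h n) : ℂ), mul_assoc,
      Units.mul_inv, mul_one]
  let ν : N →* ℂˣ := μ⁻¹ * μ.comp (MulAut.conjNormal g : MulAut N).toMonoidHom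
  have hν1 : ν = 1 := by
    refine twist_free hq ψ hqd ν (hpow ν fun n hn => ?_) fun n => ?_
    · show (μ n)⁻¹ * μ (MulAut.conjNormal g n) = 1
      rw [hμK n hn, hμK _ (hconjK g n hn), inv_one, one_mul]
    have e1 : (ψ : N → ℂ) (MulAut.conjNormal (g * h) n) = (μ n : ℂ) * (ψ : N → ℂ) n := by
      rw [map_mul, MulAut.mul_apply, hg, hμ]
    have e2 : (ψ : N → ℂ) (MulAut.conjNormal (h * g) n) =
        (μ (MulAut.conjNormal g n) : ℂ) * (ψ : N → ℂ) n := by
      rw [map_mul, MulAut.mul_apply, hμ, hg]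
    have e3 : (ψ : N → ℂ) (MulAut.conjNormal (g * h) n) = (ψ : N → ℂ) (MulAut.conjNormal (h * g) n) := by
      have hc := hGN g h
      have e : MulAut.conjNormal (g * h) n = (⟨_, hc⟩ : N) * MulAut.conjNormal (h * g) n * (⟨_, hc⟩ : N)⁻¹ :=
        Subtype.ext (by simp [MulAut.conjNormal_apply, mul_assoc])
      rw [e, isClassFunction_character (irr_isCharacter ψ.2)]
    rw [e1, e2] at e3
    show (((μ n)⁻¹ * μ (MulAut.conjNormal g n) : ℂˣ) : ℂ) * _ = _
    rw [Units.val_mul, mul_assoc, ← e3, ← mul_assoc, Units.inv_mul, one_mul]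
  have hμ1 : μ = 1 := hlin μ hμK g hgN fun n => by
    have := DFunLike.congr_fun hν1 n
    exact (inv_mul_eq_one.1 (this : (μ n)⁻¹ * μ (MulAut.conjNormal g n) = 1)).symm
  refine hl1 (hlin l hl h hhN fun n => ?_)
  have := DFunLike.congr_fun hμ1 n
  exact (mul_inv_eq_one.1 (this : l n * (l (MulAut.conjNormal h n))⁻¹ = 1)).symm

end Cfsg.Agent.Solv.FewDeg
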