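import Cfsg.Agent.Lib.Solv.FewDeg.Monomial
import Cfsg.Agent.Lib.Solv.FewDeg.Structure
import Cfsg.Agent.Lib.Solv.FewDeg.Solvable
import Cfsg.Agent.Lib.Char.RelFixLayer
import Cfsg.Agent.Lib.Char.CliffordCorr

/-!
# At most three degrees: the derived length is at most the number of degrees
-/

open scoped ComplexConjugate commutatorElement
open Cfsg Cfsg.Agent.Char

set_option autoImplicit false
set_option linter.style.haveILetI false
set_option linter.unusedSectionVars false

namespace Cfsg.Agent.Solv.FewDeg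

universe u

open TaketaBound (degSet)

variable {G : Type u} [Group G] [Fintype G]

theorem derived_add_le (N : Subgroup G) (s i : ℕ)
    (h : derivedSeries G s ≤ (derivedSeries N i).map N.subtype) :
    ∀ j, derivedSeries G (s + j) ≤ (derivedSeries N (i + j)).map N.subtype := by
  intro j
  induction j with
  | zero => exact h
  | succ j ih =>
    rw [← Nat.add_assoc, ← Nat.add_assoc, derivedSeries_succ, derivedSeries_succ, Subgroup.map_commutator]
    exact Subgroup.commutator_mono ih ih

theorem deg_eq_one_of_deg {d : ℕ} {p : ℕ} (hp : p.Prime) {k : ℕ} (h : d ∣ p ^ k) : ordCompl[p] d = 1 := by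
  obtain ⟨i, -, rfl⟩ := (Nat.dvd_prime_pow hp).1 h
  simp [hp.factorization_self, Nat.div_self (pow_pos hp.pos i)]

theorem isPGroup_of_minimal {Q : Type u} [Group Q] [Finite Q] [Group.IsNilpotent Q]
    (hna : ¬ ∀ a b : Q, a * b = b * a) (hmin : ∀ N : Subgroup Q, N.Normal → N ≠ ⊥ → commutator Q ≤ N) :
    ∃ p k : ℕ, p.Prime ∧ Nat.card Q = p ^ k := by
  have hV0 : commutator Q ≠ ⊥ := fun e => hna fun a b => by
    have := comm_mem_commutator a b
    rwa [e, Subgroup.mem_bot, mul_inv_eq_one, mul_inv_eq_iff_eq_mul] at this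
  obtain ⟨p, hp, hpd⟩ := Nat.exists_prime_and_dvd (fun e => hV0 (Subgroup.card_eq_one.1 e))
  have hpQ : p ∣ Nat.card Q := hpd.trans (Subgroup.card_subgroup_dvd_card _)
  refine ⟨p, _, hp, Nat.eq_prime_pow_of_unique_prime_dvd Nat.card_pos.ne' fun {r} hr hrd => ?_⟩
  haveI := Fact.mk hr
  obtain ⟨R⟩ : Nonempty (Sylow r Q) := inferInstance
  have hRn : (R : Subgroup Q).Normal :=
    R.normal_of_normalizerCondition Group.normalizerCondition_of_isNilpotent
  have hle := hmin _ hRn (R.ne_bot_of_dvd_card hrd)
  obtain ⟨i, hi⟩ := R.isPGroup'.exists_card_eq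
  exact ((Nat.prime_dvd_prime_iff_eq hp hr).1
    (hp.dvd_of_dvd_pow (hi ▸ hpd.trans (Subgroup.card_dvd_of_le hle)))).symm

theorem derived_of_degs : ∀ (n : ℕ) (G : Type u) [Group G] [Fintype G], Nat.card G = n →
    Group.IsSolvable G → (degSet G).card ≤ 3 → derivedSeries G (degSet G).card = ⊥ := by
  intro n
  induction n using Nat.strong_induction_on with
  | _ n ih =>
    intro G _ _ hn hsolv hcard
    classical
    haveI := hsolv
    by_cases hab : degSet G ⊆ {1}
    · have e : degSet G = {1} :=
        Finset.Subset.antisymm hab (Finset.singleton_subset_iff.2 one_mem_degSet)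
      rw [e, Finset.card_singleton, derivedSeries_succ, derivedSeries_zero,
        Subgroup.commutator_eq_bot_iff_le_centralizer]
      exact fun a _ => Subgroup.mem_centralizer_iff.2 fun b _ => comm_of_degSet_subset_one hab b a
    obtain ⟨d₀, hd₀, hd₁⟩ := Finset.not_subset.1 hab
    rw [Finset.mem_singleton] at hd₁
    by_cases hp : ∃ p : ℕ, p.Prime ∧ ∀ d ∈ degSet G, d ≠ 1 → p ∣ d
    · obtain ⟨p, hp, hdiv⟩ := hp
      obtain ⟨N, hN, ⟨k, hk⟩, hsub, hlt⟩ := complement_degs hp hdiv
      haveI := hN
      haveI := Fact.mk hp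
      haveI := Fintype.ofFinite N
      haveI : Group.IsNilpotent (G ⧸ N) :=
        (IsPGroup.of_card (by rw [← Subgroup.index_eq_card, hk]) : IsPGroup p (G ⧸ N)).isNilpotent
      set R := (degSet G).filter (fun d => ¬ ordCompl[p] d = 1) with hR
      set P := (degSet G).filter (fun d => ordCompl[p] d = 1) with hP
      have hPR : P.card + R.card = (degSet G).card := Finset.card_filter_add_card_filter_not _
      have hNsub : degSet N ⊆ insert 1 (R.image fun d => ordCompl[p] d) := by
        refine hsub.trans fun x hx => ?_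
        obtain ⟨d, hd, rfl⟩ := Finset.mem_image.1 hx
        by_cases h1 : ordCompl[p] d = 1
        · rw [h1]; exact Finset.mem_insert_self _ _
        · exact Finset.mem_insert_of_mem (Finset.mem_image_of_mem _ (Finset.mem_filter.2 ⟨hd, h1⟩))
      by_cases hRe : R = ∅
      · rw [hRe, Finset.image_empty] at hNsub
        refine taketa_abByNil ⟨N, hN, fun a ha b hb => ?_, inferInstance⟩
        exact congrArg Subtype.val (comm_of_degSet_subset_one hNsub (⟨a, ha⟩ : N) ⟨b, hb⟩)
      have hP1 : 1 ∈ P := Finset.mem_filter.2 ⟨one_mem_degSet, deg_eq_one_of_deg hp (k := 0) (one_dvd _)⟩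
      have hNcard : (degSet N).card ≤ R.card + 1 :=
        (Finset.card_le_card hNsub).trans ((Finset.card_insert_le _ _).trans (Nat.add_le_add_right Finset.card_image_le 1))
      have hPpos : 0 < P.card := Finset.card_pos.2 ⟨1, hP1⟩
      have hNder : derivedSeries N (R.card + 1) = ⊥ :=
        le_bot_iff.1 ((derivedSeries_antitone N hNcard).trans
          (ih _ (hn ▸ hlt ⟨d₀, hd₀, hd₁⟩) N rfl inferInstance (by omega)).le)
      let L : Subgroup G := (derivedSeries N 1).map N.subtype
      have hLeq : L = ⁅N, N⁆ := by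
        show (derivedSeries N 1).map N.subtype = _
        rw [derivedSeries_succ, derivedSeries_zero, Subgroup.map_commutator, ← MonoidHom.range_eq_map,
          Subgroup.range_subtype]
      haveI hLn : L.Normal := hLeq ▸ inferInstance
      have hLN : L ≤ N := Subgroup.map_subtype_le _
      have hL0 : L ≠ ⊥ := by
        intro e
        refine hRe (Finset.filter_eq_empty_iff.2 fun d hd => ?_)
        simp only [not_not]
        obtain ⟨χ, rfl⟩ := exists_of_mem_degSet hd
        refine deg_eq_one_of_deg hp (k := k) (hk ▸ deg_dvd_index_abelian_normal χ.2 N fun a b => Subtype.ext ?_)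
        exact commutatorElement_eq_one_iff_mul_comm.1
          (Subgroup.mem_bot.1 ((hLeq ▸ e : ⁅N, N⁆ = ⊥) ▸ Subgroup.commutator_mem_commutator a.2 b.2))
      haveI := Fintype.ofFinite (G ⧸ L)
      have hQsub : degSet (G ⧸ L) ⊆ P := by
        intro d hd
        refine Finset.mem_filter.2 ⟨degSet_quotient_subset L hd, ?_⟩
        obtain ⟨χ, rfl⟩ := exists_of_mem_degSet hd
        haveI : (N.map (QuotientGroup.mk' L)).Normal := hN.map _ (QuotientGroup.mk'_surjective L)
        refine deg_eq_one_of_deg hp (k := k) ((deg_dvd_index_abelian_normal χ.2 (N.map (QuotientGroup.mk' L))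
          fun a b => Subtype.ext ?_).trans (hk ▸ Subgroup.index_map_dvd _ (QuotientGroup.mk'_surjective L)))
        obtain ⟨x, hx, ex⟩ := a.2
        obtain ⟨y, hy, ey⟩ := b.2
        show (a : G ⧸ L) * b = b * a
        rw [← ex, ← ey, ← map_mul, ← map_mul, QuotientGroup.mk'_apply, QuotientGroup.mk'_apply, QuotientGroup.eq,
          hLeq]
        have := Subgroup.commutator_mem_commutator (N.inv_mem hy) (N.inv_mem hx)
        rw [commutatorElement_def] at this
        simpa [mul_assoc] using this
      have hQder : derivedSeries (G ⧸ L) P.card = ⊥ :=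
        le_bot_iff.1 ((derivedSeries_antitone _ (Finset.card_le_card hQsub)).trans
          (ih _ (hn ▸ card_quotient_lt hL0) (G ⧸ L) rfl inferInstance
            ((Finset.card_le_card hQsub).trans (by omega))).le)
      have hs : derivedSeries G P.card ≤ L := by
        rw [← QuotientGroup.ker_mk' L, ← Subgroup.map_eq_bot_iff, map_derivedSeries_eq (QuotientGroup.mk'_surjective L)]
        exact hQder
      have h2 := derived_add_le N P.card 1 hs R.card
      rw [hPR, Nat.add_comm 1, hNder, Subgroup.map_bot] at h2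
      exact le_bot_iff.1 h2
    push Not at hp
    obtain ⟨a, b, ha, hlt, hcop, hset⟩ := exists_coprime_pair hcard hp
    have hc3 : (degSet G).card = 3 := by
      rw [hset, Finset.card_insert_of_notMem (by simp; omega), Finset.card_pair hlt.ne]
    rw [hc3]
    have hdeg : ∀ φ : IrrCharacter G, deg (φ : G → ℂ) = 1 ∨ deg (φ : G → ℂ) = a ∨ deg (φ : G → ℂ) = b :=
      fun φ => by simpa [hset] using mem_degSet φ
    -- an element outside `{1}` determines the other one
    have hother : ∀ d ∈ degSet G, d ≠ 1 → ∃ e ∈ degSet G, e ≠ 1 ∧ e ≠ d ∧ d.Coprime e ∧ e ≠ 0 ∧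
        ∀ x ∈ degSet G, x = 1 ∨ x = d ∨ x = e := by
      intro d hd hd1
      rw [hset] at hd ⊢
      simp only [Finset.mem_insert, Finset.mem_singleton] at hd ⊢
      rcases hd with rfl | rfl | rfl
      · exact absurd rfl hd1
      · exact ⟨b, by simp, by omega, by omega, hcop, by omega, fun x hx => hx⟩
      · exact ⟨a, by simp, by omega, by omega, hcop.symm, by omega, fun x hx => by omega⟩
    have hnab : ¬ ∀ x y : G, x * y * x⁻¹ * y⁻¹ ∈ (⊥ : Subgroup G) := fun hc => hd₁ (by
      obtain ⟨χ, rfl⟩ := exists_of_mem_degSet hd₀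
      have h1 := forall_linear_iff_comm.1 (fun x y => by
        have := hc x y
        rwa [Subgroup.mem_bot, mul_inv_eq_one, mul_inv_eq_iff_eq_mul] at this) χ
      rwa [char_one_eq_deg (irr_isCharacter χ.2), Nat.cast_eq_one] at h1)
    obtain ⟨K, ⟨hK, hKna⟩, hKmax⟩ := Set.Finite.exists_maximal
      (s := {K : Subgroup G | K.Normal ∧ ¬ ∀ x y : G, x * y * x⁻¹ * y⁻¹ ∈ K}) (Set.toFinite _)
      ⟨⊥, inferInstance, hnab⟩
    haveI := hK
    haveI := Fintype.ofFinite K
    haveI := Fintype.ofFinite (G ⧸ K)
    have hQna : ¬ ∀ x y : G ⧸ K, x * y = y * x := fun hc => hKna fun x y => (QuotientGroup.eq_one_iff _).1 (by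
      rw [QuotientGroup.mk_mul, QuotientGroup.mk_mul, QuotientGroup.mk_mul, hc (x : G ⧸ K) (y : G ⧸ K)]
      simp)
    have hQmin : ∀ W : Subgroup (G ⧸ K), W.Normal → W ≠ ⊥ → commutator (G ⧸ K) ≤ W := by
      intro W hW hW0
      rw [commutator_def, Subgroup.commutator_le]
      intro u _ v _
      obtain ⟨x, rfl⟩ := QuotientGroup.mk_surjective u
      obtain ⟨y, rfl⟩ := QuotientGroup.mk_surjective v
      by_contra hxy
      have hle : K ≤ W.comap (QuotientGroup.mk' K) := fun k hk => by
        rw [Subgroup.mem_comap, QuotientGroup.mk'_apply, (QuotientGroup.eq_one_iff k).2 hk]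
        exact W.one_mem
      have hge := hKmax (y := W.comap (QuotientGroup.mk' K)) ⟨hW.comap _, fun hc => hxy (hc x y)⟩ hle
      refine hW0 (eq_bot_iff.2 fun z hz => ?_)
      obtain ⟨w, rfl⟩ := QuotientGroup.mk_surjective z
      exact Subgroup.mem_bot.2 ((QuotientGroup.eq_one_iff w).2 (hge hz))
    by_cases hnil : Group.IsNilpotent (G ⧸ K)
    · exfalso
      obtain ⟨p, k, hpp, hQc⟩ := isPGroup_of_minimal hQna hQmin
      obtain ⟨ψ, hψ1⟩ : ∃ ψ : IrrCharacter (G ⧸ K), deg (ψ : G ⧸ K → ℂ) ≠ 1 := by
        by_contra hno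
        push Not at hno
        exact hQna (forall_linear_iff_comm.2 fun χ => by
          rw [char_one_eq_deg (irr_isCharacter χ.2), hno χ, Nat.cast_one])
      set d := deg (ψ : G ⧸ K → ℂ) with hd
      have hdG : d ∈ degSet G := degSet_quotient_subset K (mem_degSet ψ)
      obtain ⟨e, he, he1, hed, hde, he0, hall⟩ := hother d hdG hψ1
      have hdp : d ∣ p ^ k := hQc ▸ deg_dvd_card ψ.2
      obtain ⟨i, -, hi⟩ := (Nat.dvd_prime_pow hpp).1 hdp
      have hi0 : i ≠ 0 := fun h0 => hψ1 (by rw [hi, h0, pow_zero])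
      have hpe : Nat.Coprime e (p ^ k) := Nat.Coprime.pow_right k
        ((hpp.coprime_iff_not_dvd.2 fun h => hpp.ne_one
          (Nat.eq_one_of_dvd_coprimes hde (hi ▸ dvd_pow_self p hi0) h)).symm)
      obtain ⟨χ, hχ⟩ := exists_of_mem_degSet he
      obtain ⟨θ, hθ⟩ : ∃ θ : IrrCharacter K, classInner (fun x : K => (χ : G → ℂ) x) (θ : K → ℂ) ≠ 0 := by
        by_contra hno
        push Not at hno
        obtain ⟨c, hc⟩ := exists_decomposition (isCharacter_comp K.subtype (irr_isCharacter χ.2))
        refine irr_one_ne_zero χ.2 ?_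
        have h2 := congrFun hc 1
        rw [Function.comp_apply, map_one, Finset.sum_apply, Finset.sum_eq_zero fun η _ => by
          have : (c η : ℂ) = 0 := (decomposition_coeff c hc η).symm.trans (hno η)
          rw [Nat.cast_eq_zero.1 this, zero_smul]; rfl] at h2
        exact h2
      obtain ⟨r, hr, hrd⟩ := deg_over K hθ
      rw [hχ] at hr
      rw [Subgroup.index_eq_card, hQc] at hrd
      have hr1 : r = 1 := Nat.eq_one_of_dvd_coprimes hpe ⟨_, hr⟩ hrd
      rw [hr1, one_mul] at hr
      have hres : ∀ x : K, (χ : G → ℂ) x = (θ : K → ℂ) x := fun x =>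
        congrFun (eq_of_inner_ne_zero_of_deg (F := fun y : K => (χ : G → ℂ) y)
          (isCharacter_comp K.subtype (irr_isCharacter χ.2)) θ hθ
          (by rw [OneMemClass.coe_one, char_one_eq_deg (irr_isCharacter χ.2), char_one_eq_deg (irr_isCharacter θ.2), hχ, hr])) x
      have hgal := gallagher_one K θ (irr_isCharacter χ.2) hres
      let β := (inflateEquiv K ψ).1
      have hmem : IsIrrCharacter G ((β : G → ℂ) * (χ : G → ℂ)) :=
        (hgal.mapsTo (x := (β : G → ℂ)) ⟨β.2, fun x => by
          rw [inflateEquiv_apply, inflateEquiv_apply, (QuotientGroup.eq_one_iff (x : G)).2 x.2,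
            QuotientGroup.mk_one]⟩).1
      have hprod : deg ((⟨_, hmem⟩ : IrrCharacter G) : G → ℂ) = d * e :=
        Nat.cast_injective (R := ℂ) (by
          rw [← char_one_eq_deg (irr_isCharacter hmem)]
          push_cast
          rw [Pi.mul_apply, inflateEquiv_apply, QuotientGroup.mk_one, char_one_eq_deg (irr_isCharacter ψ.2),
            char_one_eq_deg (irr_isCharacter χ.2), hχ])
      have hd0 : d ≠ 0 := (deg_pos ψ.2).ne'
      rcases hall (d * e) (hprod ▸ mem_degSet (⟨_, hmem⟩ : IrrCharacter G)) with h | h | h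
      · exact he1 (Nat.eq_one_of_mul_eq_one_left h)
      · exact he1 ((Nat.mul_eq_left hd0).1 h)
      · exact hψ1 ((Nat.mul_eq_right he0).1 h)
    obtain ⟨q, hq, hexpQ, hVtop, hqidx, hfpfQ⟩ := frobenius_quotient hQna hQmin hnil
    let N : Subgroup G := (commutator (G ⧸ K)).comap (QuotientGroup.mk' K)
    haveI : N.Normal := Subgroup.Normal.comap inferInstance _
    haveI := Fintype.ofFinite N
    have hKN : K ≤ N := fun x hx => by
      rw [Subgroup.mem_comap, QuotientGroup.mk'_apply, (QuotientGroup.eq_one_iff x).2 hx]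
      exact Subgroup.one_mem _
    have hidx : N.index = (commutator (G ⧸ K)).index :=
      Subgroup.index_comap_of_surjective _ (QuotientGroup.mk'_surjective K)
    obtain ⟨hV0, hVab⟩ := commutator_minimal hQna hQmin
    have hGN : ∀ x y : G, x * y * x⁻¹ * y⁻¹ ∈ N := fun x y => comm_mem_commutator (x : G ⧸ K) y
    have hlift : ∀ ψ : IrrCharacter N, ¬ q ∣ deg (ψ : N → ℂ) → N.index * deg (ψ : N → ℂ) ∈ degSet G := by
      intro ψ hψ
      refine lift_degree K N hGN hq (fun x hx => ?_) (fun g hg x hx hc => ?_) (fun x hx y hy => ?_) ?_ ψ hψ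
      · rw [← QuotientGroup.eq_one_iff, QuotientGroup.mk_pow]
        exact hexpQ _ hx
      · refine (QuotientGroup.eq_one_iff x).1 (hfpfQ _ hg _ hx ?_)
        have h1 := (QuotientGroup.eq_one_iff _).2 hc
        rw [QuotientGroup.mk_mul, QuotientGroup.mk_mul, QuotientGroup.mk_mul, QuotientGroup.mk_inv,
          QuotientGroup.mk_inv, mul_inv_eq_one, mul_inv_eq_iff_eq_mul] at h1
        exact h1
      · refine (QuotientGroup.eq_one_iff _).1 ?_
        rw [QuotientGroup.mk_mul, QuotientGroup.mk_mul, QuotientGroup.mk_mul,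
          hVab (x : G ⧸ K) hx (y : G ⧸ K) hy]
        simp
      · intro hNK
        refine hV0 ((Subgroup.eq_bot_iff_forall _).2 fun v hv => ?_)
        obtain ⟨x, rfl⟩ := QuotientGroup.mk_surjective v
        exact (QuotientGroup.eq_one_iff x).2 (hNK hv)
    set f := N.index with hf
    have hf1 : f ≠ 1 := by rw [hidx, Ne, Subgroup.index_eq_one]; exact hVtop
    have hqf : ¬ q ∣ f := by rw [hidx]; exact hqidx
    have hfG : f ∈ degSet G := by
      have := hlift ⟨fun _ => 1, isIrrCharacter_one⟩ (by rw [deg_trivial]; exact hq.not_dvd_one)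
      rwa [deg_trivial, mul_one] at this
    obtain ⟨e, -, -, hef, hfe, -, hall⟩ := hother f hfG hf1
    have hNdeg : degSet N ⊆ {1, e} := by
      intro m hm
      obtain ⟨ψ, rfl⟩ := exists_of_mem_degSet hm
      by_cases hψ1 : deg (ψ : N → ℂ) = 1
      · simp [hψ1]
      have hqψ : q ∣ deg (ψ : N → ℂ) := by
        by_contra hqψ
        rcases hall _ (hlift ψ hqψ) with h | h | h
        · exact hf1 (Nat.eq_one_of_mul_eq_one_right h)
        · exact hψ1 ((Nat.mul_eq_left Subgroup.index_ne_zero_of_finite).1 h)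
        · exact hf1 (Nat.eq_one_of_dvd_coprimes hfe dvd_rfl ⟨_, h.symm⟩)
      obtain ⟨χ, hχ⟩ := exists_constituent_over N ψ
      obtain ⟨r, hr, hrd⟩ := deg_over N hχ
      rcases hall _ (mem_degSet χ) with h | h | h
      · exact absurd (Nat.eq_one_of_mul_eq_one_left (hr ▸ h)) hψ1
      · exact absurd (hqψ.trans ⟨r, by rw [← h, hr, mul_comm]⟩) hqf
      · have hr1 : r = 1 := Nat.eq_one_of_dvd_coprimes hfe hrd ⟨_, h.symm.trans hr⟩
        rw [hr1, one_mul] at hr
        simp [← hr, h]
    have hNlt : Nat.card N < Nat.card G :=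
      lt_of_le_of_ne (Subgroup.card_le_card_group N) fun hh => hf1 (by
        rw [hf, Subgroup.index_eq_one]; exact Subgroup.eq_top_of_card_eq N hh)
    have h2 : (degSet N).card ≤ 2 := (Finset.card_le_card hNdeg).trans Finset.card_le_two
    have hNder : derivedSeries N 2 = ⊥ :=
      le_bot_iff.1 ((derivedSeries_antitone N h2).trans
        (ih _ (hn ▸ hNlt) N rfl inferInstance (h2.trans (by omega))).le)
    have h1 : derivedSeries G 1 ≤ (derivedSeries N 0).map N.subtype := by
      rw [derivedSeries_zero, ← MonoidHom.range_eq_map, Subgroup.range_subtype, derivedSeries_succ,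
        derivedSeries_zero, Subgroup.commutator_le]
      intro x _ y _
      rw [commutatorElement_def]
      exact hGN x y
    have h3 := derived_add_le N 1 0 h1 2
    rw [Nat.zero_add, hNder, Subgroup.map_bot] at h3
    exact le_bot_iff.1 h3

/-- A finite group with at most three degrees has derived length at most that number. -/
theorem derived_length_le (h : (degSet G).card ≤ 3) : derivedSeries G (degSet G).card = ⊥ :=
  derived_of_degs _ G rfl (isSolvable_of_three _ G rfl h) h

end Cfsg.Agent.Solv.FewDeg
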