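import Cfsg.Agent.Lib.Char.TaketaBound

/-!
# Groups with an abelian normal subgroup and nilpotent quotient are monomial
-/

open scoped ComplexConjugate commutatorElement
open Cfsg Cfsg.Agent.Char

set_option autoImplicit false
set_option linter.style.haveILetI false
set_option linter.unusedSectionVars false

namespace Cfsg.Agent.Solv.FewDeg

universe u

/-- An abelian normal subgroup with nilpotent quotient exists. -/
def AbByNil (G : Type u) [Group G] : Prop :=
  ∃ A : Subgroup G, ∃ (_ : A.Normal), (∀ a ∈ A, ∀ b ∈ A, a * b = b * a) ∧ Group.IsNilpotent (G ⧸ A)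

theorem AbByNil.of_injective {G H : Type u} [Group G] [Group H] (h : AbByNil G) (f : H →* G)
    (hf : Function.Injective f) : AbByNil H := by
  obtain ⟨A, hA, hab, hnil⟩ := h
  haveI := hA
  haveI := hnil
  refine ⟨A.comap f, inferInstance, fun a ha b hb => hf (by rw [map_mul, map_mul]; exact hab _ ha _ hb), ?_⟩
  have hinj : Function.Injective (QuotientGroup.map (A.comap f) A f le_rfl) := by
    rw [injective_iff_map_eq_one]
    intro x hx
    induction x using QuotientGroup.induction_on with | _ a =>
    exact (QuotientGroup.eq_one_iff a).2 (show f a ∈ A from (QuotientGroup.eq_one_iff _).1 hx)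
  exact Group.nilpotent_of_mulEquiv (MonoidHom.ofInjective hinj).symm

theorem AbByNil.quotient {G : Type u} [Group G] (h : AbByNil G) (N : Subgroup G) [N.Normal] :
    AbByNil (G ⧸ N) := by
  obtain ⟨A, hA, hab, hnil⟩ := h
  haveI := hA
  haveI := hnil
  haveI hAn : (A.map (QuotientGroup.mk' N)).Normal := hA.map _ (QuotientGroup.mk'_surjective N)
  refine ⟨A.map (QuotientGroup.mk' N), hAn, ?_, ?_⟩
  · rintro _ ⟨a, ha, rfl⟩ _ ⟨b, hb, rfl⟩
    rw [← map_mul, ← map_mul, hab a ha b hb]
  · refine Group.nilpotent_of_surjective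
      (QuotientGroup.map A _ (QuotientGroup.mk' N) (Subgroup.le_comap_map _ _)) ?_
    intro z
    obtain ⟨y, rfl⟩ := QuotientGroup.mk_surjective z
    obtain ⟨x, rfl⟩ := QuotientGroup.mk'_surjective N y
    exact ⟨QuotientGroup.mk x, rfl⟩

theorem exists_noncentral_abelian_normal' {G : Type u} [Group G] (h : AbByNil G)
    (hc : Subgroup.center G ≠ ⊤) :
    ∃ A : Subgroup G, A.Normal ∧ (∀ a b : A, a * b = b * a) ∧ ¬ A ≤ Subgroup.center G := by
  obtain ⟨A, hA, hab, hnil⟩ := h
  haveI := hA
  haveI := hnil
  by_cases hAc : A ≤ Subgroup.center G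
  · haveI : Group.IsNilpotent G :=
      Subgroup.isNilpotent_of_ker_le_center (QuotientGroup.mk' A) (by rw [QuotientGroup.ker_mk']; exact hAc)
    exact exists_noncentral_abelian_normal hc
  · exact ⟨A, hA, fun a b => Subtype.ext (hab a a.2 b b.2), hAc⟩

theorem monomial_abByNil (n : ℕ) : ∀ (G : Type u) [Group G] [Fintype G], AbByNil G →
    Nat.card G = n → ∀ χ : G → ℂ, IsIrrCharacter G χ →
    ∃ (H : Subgroup G) (lam : H →* ℂˣ), χ = indFun H (fun h => (lam h : ℂ)) := by
  induction n using Nat.strong_induction_on with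
  | _ n IH =>
    intro G _ _ hG hn χ hχ
    classical
    obtain ⟨d, ρ, hirr, hρ⟩ := id hχ
    by_cases hker : ρ.ker = ⊥
    · by_cases hab : Subgroup.center G = ⊤
      · apply monomial_of_linear hχ
        have hcomm : ∀ a b : G, a * b = b * a := fun a b =>
          (Subgroup.mem_center_iff.1 (hab ▸ Subgroup.mem_top b) a)
        exact forall_linear_iff_comm.1 hcomm ⟨χ, hχ⟩
      obtain ⟨A, hA, hAab, hAnc⟩ := exists_noncentral_abelian_normal' hG hab
      obtain ⟨T, ψ, hAT, hψ, hind, htop⟩ := exists_clifford_correspondent hχ A hAab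
      have hT : T ≠ ⊤ := by
        intro hT
        refine hAnc fun a ha => ?_
        have hn' := htop hT ⟨a, ha⟩
        rw [← hρ] at hn'
        obtain ⟨c, hc⟩ := (eq_scalar_iff ρ a).1 (by
          simpa [Representation.char_one] using hn')
        rw [Subgroup.mem_center_iff]
        intro g
        have hk : (g * a * g⁻¹ * a⁻¹) ∈ ρ.ker := by
          have hc' : ρ a = c • (1 : Module.End ℂ (Fin d → ℂ)) := hc
          rw [MonoidHom.mem_ker, map_mul, map_mul, map_mul]
          calc ρ g * ρ a * ρ g⁻¹ * ρ a⁻¹ = ρ a * (ρ g * ρ g⁻¹) * ρ a⁻¹ := by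
                rw [hc']; simp only [mul_smul_comm, smul_mul_assoc, one_mul, mul_one]
            _ = 1 := by rw [← map_mul, mul_inv_cancel, map_one, mul_one, ← map_mul, mul_inv_cancel, map_one]
        rw [hker, Subgroup.mem_bot, mul_inv_eq_one, mul_inv_eq_iff_eq_mul] at hk
        exact hk
      have hlt : Nat.card T < n := by
        rw [← hn]
        refine lt_of_le_of_ne (Subgroup.card_le_card_group T) fun he => hT ?_
        exact Subgroup.eq_top_of_card_eq T he
      haveI := Fintype.ofFinite T
      obtain ⟨H, l, hl⟩ := IH _ hlt T (hG.of_injective T.subtype T.subtype_injective) rfl ψ hψ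
      refine ⟨H.map T.subtype,
        l.comp (Subgroup.equivMapOfInjective H T.subtype T.subtype_injective).symm.toMonoidHom, ?_⟩
      rw [hind, hl]
      exact indFun_map_subtype H l
    · let N : Subgroup G := ρ.ker
      obtain ⟨χ', hχ'⟩ := exists_deflate N hχ (fun m hm => by
        rw [← hρ]
        simp only [Representation.character]
        rw [MonoidHom.mem_ker.1 hm, ← map_one ρ])
      haveI := Fintype.ofFinite (G ⧸ N)
      have hlt : Nat.card (G ⧸ N) < n := by
        rw [← hn, ← Subgroup.index_eq_card]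
        have h2 : 1 < Nat.card N := Subgroup.one_lt_card_iff_ne_bot N |>.2 hker
        have h3 := N.index_mul_card
        have h4 : 0 < N.index := Nat.pos_of_ne_zero Subgroup.index_ne_zero_of_finite
        nlinarith
      obtain ⟨H', l, hl⟩ := IH _ hlt (G ⧸ N) (hG.quotient N) rfl _ χ'.2
      let H : Subgroup G := H'.comap (QuotientGroup.mk' N)
      have hNH : N ≤ H := fun m hm => by
        show QuotientGroup.mk' N m ∈ H'
        rw [QuotientGroup.mk'_apply, (QuotientGroup.eq_one_iff m).2 hm]
        exact H'.one_mem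
      let f : H →* H' := { toFun := fun x => ⟨QuotientGroup.mk' N x, x.2⟩, map_one' := Subtype.ext (map_one _), map_mul' := fun a b => Subtype.ext (map_mul _ _ _) }
      refine ⟨H, l.comp f, ?_⟩
      funext g
      have hmap : H.map (QuotientGroup.mk' N) = H' :=
        Subgroup.map_comap_eq_self_of_surjective (QuotientGroup.mk'_surjective N) H'
      haveI := Fintype.ofFinite (H.map (QuotientGroup.mk' N))
      rw [← hχ' g, hl, ← Cfsg.Agent.S1488.result N H hNH (fun x => ((l.comp f) x : ℂ))
        (fun y => (l ⟨y.1, hmap ▸ y.2⟩ : ℂ)) (fun x => rfl) g]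
      have key : ∀ (S : Subgroup (G ⧸ N)) (hS : S = H'),
          indFun H' (fun h => (l h : ℂ)) = indFun S (fun y => (l ⟨y.1, hS ▸ y.2⟩ : ℂ)) := by
        intro S hS
        subst hS
        rfl
      rw [key _ hmap]
      rfl

/-- The derived length of such a group is at most the number of degrees. -/
theorem taketa_abByNil {G : Type u} [Group G] [Fintype G] (h : AbByNil G) :
    derivedSeries G (TaketaBound.degSet G).card = ⊥ :=
  TaketaBound.taketa fun χ hχ => monomial_abByNil _ G h rfl χ hχ

end Cfsg.Agent.Solv.FewDeg
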